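import Cfsg.Agent.H0.EON.D0
import Cfsg.Agent.H0.EON.D1
import Cfsg.Agent.H0.EON.D2
import Cfsg.Agent.H0.EON.D3
import Cfsg.Agent.H0.EON.D4
import Cfsg.Agent.H0.EON.D5
import Cfsg.Agent.H0.EON.D6
import Cfsg.Agent.H0.EON.D7
import Cfsg.Agent.H0.TT
import Cfsg.Agent.H0.MON.D
import Cfsg.Agent.H0.ML37.D
import Cfsg.Agent.H0.MJ1.D
import Cfsg.Agent.H0.MM11p.D
set_option maxRecDepth 100000
set_option Elab.async false
set_option linter.unusedSectionVars false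
namespace H0.EON
open H0 BN 
noncomputable def n16 : Net := (Net.cons (nat_lit 65536) n16m0 (Net.cons (nat_lit 32768) n16m1 (Net.cons (nat_lit 16384) n16m2 (Net.cons (nat_lit 8192) n16m3 (Net.cons (nat_lit 4096) n16m4 (Net.cons (nat_lit 2048) n16m5 (Net.cons (nat_lit 1024) n16m6 (Net.cons (nat_lit 512) n16m7 (Net.cons (nat_lit 256) n16m8 (Net.cons (nat_lit 128) n16m9 (Net.cons (nat_lit 64) n16m10 (Net.cons (nat_lit 32) n16m11 (Net.cons (nat_lit 16) n16m12 (Net.cons (nat_lit 8) n16m13 (Net.cons (nat_lit 4) n16m14 (Net.cons (nat_lit 2) n16m15 (Net.cons (nat_lit 1) n16m16 (Net.cons (nat_lit 2) n16m17 (Net.cons (nat_lit 4) n16m18 (Net.cons (nat_lit 8) n16m19 (Net.cons (nat_lit 16) n16m20 (Net.cons (nat_lit 32) n16m21 (Net.cons (nat_lit 64) n16m22 (Net.cons (nat_lit 128) n16m23 (Net.cons (nat_lit 256) n16m24 (Net.cons (nat_lit 512) n16m25 (Net.cons (nat_lit 1024) n16m26 (Net.cons (nat_lit 2048) n16m27 (Net.cons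 (nat_lit 4096) n16m28 (Net.cons (nat_lit 8192) n16m29 (Net.cons (nat_lit 16384) n16m30 (Net.cons (nat_lit 32768) n16m31 (Net.cons (nat_lit 65536) n16m32 Net.nil)))))))))))))))))))))))))))))))))
noncomputable def n17 : Net := (Net.cons (nat_lit 65536) n17m0 (Net.cons (nat_lit 32768) n17m1 (Net.cons (nat_lit 16384) n17m2 (Net.cons (nat_lit 8192) n17m3 (Net.cons (nat_lit 4096) n17m4 (Net.cons (nat_lit 2048) n17m5 (Net.cons (nat_lit 1024) n17m6 (Net.cons (nat_lit 512) n17m7 (Net.cons (nat_lit 256) n17m8 (Net.cons (nat_lit 128) n17m9 (Net.cons (nat_lit 64) n17m10 (Net.cons (nat_lit 32) n17m11 (Net.cons (nat_lit 16) n17m12 (Net.cons (nat_lit 8) n17m13 (Net.cons (nat_lit 4) n17m14 (Net.cons (nat_lit 2) n17m15 (Net.cons (nat_lit 1) n17m16 (Net.cons (nat_lit 2) n17m17 (Net.cons (nat_lit 4) n17m18 (Net.cons (nat_lit 8) n17m19 (Net.cons (nat_lit 16) n17m20 (Net.cons (nat_lit 32) n17m21 (Net.cons (nat_lit 64) n17m22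 (Net.cons (nat_lit 128) n17m23 (Net.cons (nat_lit 256) n17m24 (Net.cons (nat_lit 512) n17m25 (Net.cons (nat_lit 1024) n17m26 (Net.cons (nat_lit 2048) n17m27 (Net.cons (nat_lit 4096) n17m28 (Net.cons (nat_lit 8192) n17m29 (Net.cons (nat_lit 16384) n17m30 (Net.cons (nat_lit 32768) n17m31 (Net.cons (nat_lit 65536) n17m32 Net.nil)))))))))))))))))))))))))))))))))
noncomputable def n18 : Net := (Net.cons (nat_lit 65536) n18m0 (Net.cons (nat_lit 32768) n18m1 (Net.cons (nat_lit 16384) n18m2 (Net.cons (nat_lit 8192) n18m3 (Net.cons (nat_lit 4096) n18m4 (Net.cons (nat_lit 2048) n18m5 (Net.cons (nat_lit 1024) n18m6 (Net.cons (nat_lit 512) n18m7 (Net.cons (nat_lit 256) n18m8 (Net.cons (nat_lit 128) n18m9 (Net.cons (nat_lit 64) n18m10 (Net.cons (nat_lit 32) n18m11 (Net.cons (nat_lit 16) n18m12 (Net.cons (nat_lit 8) n18m13 (Net.cons (nat_lit 4) n18m14 (Net.cons (nat_lit 2) n18m15 (Net.cons (nat_lit 1) n18m16 (Net.cons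 (nat_lit 2) n18m17 (Net.cons (nat_lit 4) n18m18 (Net.cons (nat_lit 8) n18m19 (Net.cons (nat_lit 16) n18m20 (Net.cons (nat_lit 32) n18m21 (Net.cons (nat_lit 64) n18m22 (Net.cons (nat_lit 128) n18m23 (Net.cons (nat_lit 256) n18m24 (Net.cons (nat_lit 512) n18m25 (Net.cons (nat_lit 1024) n18m26 (Net.cons (nat_lit 2048) n18m27 (Net.cons (nat_lit 4096) n18m28 (Net.cons (nat_lit 8192) n18m29 (Net.cons (nat_lit 16384) n18m30 (Net.cons (nat_lit 32768) n18m31 (Net.cons (nat_lit 65536) n18m32 Net.nil)))))))))))))))))))))))))))))))))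
noncomputable def n19 : Net := (Net.cons (nat_lit 65536) n19m0 (Net.cons (nat_lit 32768) n19m1 (Net.cons (nat_lit 16384) n19m2 (Net.cons (nat_lit 8192) n19m3 (Net.cons (nat_lit 4096) n19m4 (Net.cons (nat_lit 2048) n19m5 (Net.cons (nat_lit 1024) n19m6 (Net.cons (nat_lit 512) n19m7 (Net.cons (nat_lit 256) n19m8 (Net.cons (nat_lit 128) n19m9 (Net.cons (nat_lit 64) n19m10 (Net.cons (nat_lit 32) n19m11 (Net.cons (nat_lit 16) n19m12 (Net.cons (nat_lit 8) n19m13 (Net.cons (nat_lit 4) n19m14 (Net.cons (nat_lit 2) n19m15 (Net.cons (nat_lit 1) n19m16 (Net.cons (nat_lit 2) n19m17 (Net.cons (nat_lit 4) n19m18 (Net.cons (nat_lit 8) n19m19 (Net.cons (nat_lit 16) n19m20 (Net.cons (nat_lit 32) n19m21 (Net.cons (nat_lit 64) n19m22 (Net.cons (nat_lit 128) n19m23 (Net.cons (nat_lit 256) n19m24 (Net.cons (nat_lit 512) n19m25 (Net.cons (nat_lit 1024) n19m26 (Net.cons (nat_lit 2048) n19m27 (Net.cons (nat_lit 4096) n19m28 (Net.cons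 (nat_lit 8192) n19m29 (Net.cons (nat_lit 16384) n19m30 (Net.cons (nat_lit 32768) n19m31 (Net.cons (nat_lit 65536) n19m32 Net.nil)))))))))))))))))))))))))))))))))
noncomputable def n20 : Net := (Net.cons (nat_lit 65536) n20m0 (Net.cons (nat_lit 32768) n20m1 (Net.cons (nat_lit 16384) n20m2 (Net.cons (nat_lit 8192) n20m3 (Net.cons (nat_lit 4096) n20m4 (Net.cons (nat_lit 2048) n20m5 (Net.cons (nat_lit 1024) n20m6 (Net.cons (nat_lit 512) n20m7 (Net.cons (nat_lit 256) n20m8 (Net.cons (nat_lit 128) n20m9 (Net.cons (nat_lit 64) n20m10 (Net.cons (nat_lit 32) n20m11 (Net.cons (nat_lit 16) n20m12 (Net.cons (nat_lit 8) n20m13 (Net.cons (nat_lit 4) n20m14 (Net.cons (nat_lit 2) n20m15 (Net.cons (nat_lit 1) n20m16 (Net.cons (nat_lit 2) n20m17 (Net.cons (nat_lit 4) n20m18 (Net.cons (nat_lit 8) n20m19 (Net.cons (nat_lit 16) n20m20 (Net.cons (nat_lit 32) n20m21 (Net.cons (nat_lit 64) n20m22 (Net.cons (nat_lit 128) n20m23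 (Net.cons (nat_lit 256) n20m24 (Net.cons (nat_lit 512) n20m25 (Net.cons (nat_lit 1024) n20m26 (Net.cons (nat_lit 2048) n20m27 (Net.cons (nat_lit 4096) n20m28 (Net.cons (nat_lit 8192) n20m29 (Net.cons (nat_lit 16384) n20m30 (Net.cons (nat_lit 32768) n20m31 (Net.cons (nat_lit 65536) n20m32 Net.nil)))))))))))))))))))))))))))))))))
noncomputable def n21 : Net := (Net.cons (nat_lit 65536) n21m0 (Net.cons (nat_lit 32768) n21m1 (Net.cons (nat_lit 16384) n21m2 (Net.cons (nat_lit 8192) n21m3 (Net.cons (nat_lit 4096) n21m4 (Net.cons (nat_lit 2048) n21m5 (Net.cons (nat_lit 1024) n21m6 (Net.cons (nat_lit 512) n21m7 (Net.cons (nat_lit 256) n21m8 (Net.cons (nat_lit 128) n21m9 (Net.cons (nat_lit 64) n21m10 (Net.cons (nat_lit 32) n21m11 (Net.cons (nat_lit 16) n21m12 (Net.cons (nat_lit 8) n21m13 (Net.cons (nat_lit 4) n21m14 (Net.cons (nat_lit 2) n21m15 (Net.cons (nat_lit 1) n21m16 (Net.cons (nat_lit 2) n21m17 (Net.cons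 (nat_lit 4) n21m18 (Net.cons (nat_lit 8) n21m19 (Net.cons (nat_lit 16) n21m20 (Net.cons (nat_lit 32) n21m21 (Net.cons (nat_lit 64) n21m22 (Net.cons (nat_lit 128) n21m23 (Net.cons (nat_lit 256) n21m24 (Net.cons (nat_lit 512) n21m25 (Net.cons (nat_lit 1024) n21m26 (Net.cons (nat_lit 2048) n21m27 (Net.cons (nat_lit 4096) n21m28 (Net.cons (nat_lit 8192) n21m29 (Net.cons (nat_lit 16384) n21m30 (Net.cons (nat_lit 32768) n21m31 (Net.cons (nat_lit 65536) n21m32 Net.nil)))))))))))))))))))))))))))))))))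
noncomputable def n22 : Net := (Net.cons (nat_lit 65536) n22m0 (Net.cons (nat_lit 32768) n22m1 (Net.cons (nat_lit 16384) n22m2 (Net.cons (nat_lit 8192) n22m3 (Net.cons (nat_lit 4096) n22m4 (Net.cons (nat_lit 2048) n22m5 (Net.cons (nat_lit 1024) n22m6 (Net.cons (nat_lit 512) n22m7 (Net.cons (nat_lit 256) n22m8 (Net.cons (nat_lit 128) n22m9 (Net.cons (nat_lit 64) n22m10 (Net.cons (nat_lit 32) n22m11 (Net.cons (nat_lit 16) n22m12 (Net.cons (nat_lit 8) n22m13 (Net.cons (nat_lit 4) n22m14 (Net.cons (nat_lit 2) n22m15 (Net.cons (nat_lit 1) n22m16 (Net.cons (nat_lit 2) n22m17 (Net.cons (nat_lit 4) n22m18 (Net.cons (nat_lit 8) n22m19 (Net.cons (nat_lit 16) n22m20 (Net.cons (nat_lit 32) n22m21 (Net.cons (nat_lit 64) n22m22 (Net.cons (nat_lit 128) n22m23 (Net.cons (nat_lit 256) n22m24 (Net.cons (nat_lit 512) n22m25 (Net.cons (nat_lit 1024) n22m26 (Net.cons (nat_lit 2048) n22m27 (Net.cons (nat_lit 4096) n22m28 (Net.cons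 (nat_lit 8192) n22m29 (Net.cons (nat_lit 16384) n22m30 (Net.cons (nat_lit 32768) n22m31 (Net.cons (nat_lit 65536) n22m32 Net.nil)))))))))))))))))))))))))))))))))
noncomputable def n23 : Net := (Net.cons (nat_lit 65536) n23m0 (Net.cons (nat_lit 32768) n23m1 (Net.cons (nat_lit 16384) n23m2 (Net.cons (nat_lit 8192) n23m3 (Net.cons (nat_lit 4096) n23m4 (Net.cons (nat_lit 2048) n23m5 (Net.cons (nat_lit 1024) n23m6 (Net.cons (nat_lit 512) n23m7 (Net.cons (nat_lit 256) n23m8 (Net.cons (nat_lit 128) n23m9 (Net.cons (nat_lit 64) n23m10 (Net.cons (nat_lit 32) n23m11 (Net.cons (nat_lit 16) n23m12 (Net.cons (nat_lit 8) n23m13 (Net.cons (nat_lit 4) n23m14 (Net.cons (nat_lit 2) n23m15 (Net.cons (nat_lit 1) n23m16 (Net.cons (nat_lit 2) n23m17 (Net.cons (nat_lit 4) n23m18 (Net.cons (nat_lit 8) n23m19 (Net.cons (nat_lit 16) n23m20 (Net.cons (nat_lit 32) n23m21 (Net.cons (nat_lit 64) n23m22 (Net.cons (nat_lit 128) n23m23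 (Net.cons (nat_lit 256) n23m24 (Net.cons (nat_lit 512) n23m25 (Net.cons (nat_lit 1024) n23m26 (Net.cons (nat_lit 2048) n23m27 (Net.cons (nat_lit 4096) n23m28 (Net.cons (nat_lit 8192) n23m29 (Net.cons (nat_lit 16384) n23m30 (Net.cons (nat_lit 32768) n23m31 (Net.cons (nat_lit 65536) n23m32 Net.nil)))))))))))))))))))))))))))))))))
noncomputable def n24 : Net := (Net.cons (nat_lit 65536) n24m0 (Net.cons (nat_lit 32768) n24m1 (Net.cons (nat_lit 16384) n24m2 (Net.cons (nat_lit 8192) n24m3 (Net.cons (nat_lit 4096) n24m4 (Net.cons (nat_lit 2048) n24m5 (Net.cons (nat_lit 1024) n24m6 (Net.cons (nat_lit 512) n24m7 (Net.cons (nat_lit 256) n24m8 (Net.cons (nat_lit 128) n24m9 (Net.cons (nat_lit 64) n24m10 (Net.cons (nat_lit 32) n24m11 (Net.cons (nat_lit 16) n24m12 (Net.cons (nat_lit 8) n24m13 (Net.cons (nat_lit 4) n24m14 (Net.cons (nat_lit 2) n24m15 (Net.cons (nat_lit 1) n24m16 (Net.cons (nat_lit 2) n24m17 (Net.cons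 (nat_lit 4) n24m18 (Net.cons (nat_lit 8) n24m19 (Net.cons (nat_lit 16) n24m20 (Net.cons (nat_lit 32) n24m21 (Net.cons (nat_lit 64) n24m22 (Net.cons (nat_lit 128) n24m23 (Net.cons (nat_lit 256) n24m24 (Net.cons (nat_lit 512) n24m25 (Net.cons (nat_lit 1024) n24m26 (Net.cons (nat_lit 2048) n24m27 (Net.cons (nat_lit 4096) n24m28 (Net.cons (nat_lit 8192) n24m29 (Net.cons (nat_lit 16384) n24m30 (Net.cons (nat_lit 32768) n24m31 (Net.cons (nat_lit 65536) n24m32 Net.nil)))))))))))))))))))))))))))))))))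
noncomputable def n25 : Net := (Net.cons (nat_lit 65536) n25m0 (Net.cons (nat_lit 32768) n25m1 (Net.cons (nat_lit 16384) n25m2 (Net.cons (nat_lit 8192) n25m3 (Net.cons (nat_lit 4096) n25m4 (Net.cons (nat_lit 2048) n25m5 (Net.cons (nat_lit 1024) n25m6 (Net.cons (nat_lit 512) n25m7 (Net.cons (nat_lit 256) n25m8 (Net.cons (nat_lit 128) n25m9 (Net.cons (nat_lit 64) n25m10 (Net.cons (nat_lit 32) n25m11 (Net.cons (nat_lit 16) n25m12 (Net.cons (nat_lit 8) n25m13 (Net.cons (nat_lit 4) n25m14 (Net.cons (nat_lit 2) n25m15 (Net.cons (nat_lit 1) n25m16 (Net.cons (nat_lit 2) n25m17 (Net.cons (nat_lit 4) n25m18 (Net.cons (nat_lit 8) n25m19 (Net.cons (nat_lit 16) n25m20 (Net.cons (nat_lit 32) n25m21 (Net.cons (nat_lit 64) n25m22 (Net.cons (nat_lit 128) n25m23 (Net.cons (nat_lit 256) n25m24 (Net.cons (nat_lit 512) n25m25 (Net.cons (nat_lit 1024) n25m26 (Net.cons (nat_lit 2048) n25m27 (Net.cons (nat_lit 4096) n25m28 (Net.cons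 (nat_lit 8192) n25m29 (Net.cons (nat_lit 16384) n25m30 (Net.cons (nat_lit 32768) n25m31 (Net.cons (nat_lit 65536) n25m32 Net.nil)))))))))))))))))))))))))))))))))
noncomputable def n26 : Net := (Net.cons (nat_lit 65536) n26m0 (Net.cons (nat_lit 32768) n26m1 (Net.cons (nat_lit 16384) n26m2 (Net.cons (nat_lit 8192) n26m3 (Net.cons (nat_lit 4096) n26m4 (Net.cons (nat_lit 2048) n26m5 (Net.cons (nat_lit 1024) n26m6 (Net.cons (nat_lit 512) n26m7 (Net.cons (nat_lit 256) n26m8 (Net.cons (nat_lit 128) n26m9 (Net.cons (nat_lit 64) n26m10 (Net.cons (nat_lit 32) n26m11 (Net.cons (nat_lit 16) n26m12 (Net.cons (nat_lit 8) n26m13 (Net.cons (nat_lit 4) n26m14 (Net.cons (nat_lit 2) n26m15 (Net.cons (nat_lit 1) n26m16 (Net.cons (nat_lit 2) n26m17 (Net.cons (nat_lit 4) n26m18 (Net.cons (nat_lit 8) n26m19 (Net.cons (nat_lit 16) n26m20 (Net.cons (nat_lit 32) n26m21 (Net.cons (nat_lit 64) n26m22 (Net.cons (nat_lit 128) n26m23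 (Net.cons (nat_lit 256) n26m24 (Net.cons (nat_lit 512) n26m25 (Net.cons (nat_lit 1024) n26m26 (Net.cons (nat_lit 2048) n26m27 (Net.cons (nat_lit 4096) n26m28 (Net.cons (nat_lit 8192) n26m29 (Net.cons (nat_lit 16384) n26m30 (Net.cons (nat_lit 32768) n26m31 (Net.cons (nat_lit 65536) n26m32 Net.nil)))))))))))))))))))))))))))))))))
noncomputable def n27 : Net := (Net.cons (nat_lit 65536) n27m0 (Net.cons (nat_lit 32768) n27m1 (Net.cons (nat_lit 16384) n27m2 (Net.cons (nat_lit 8192) n27m3 (Net.cons (nat_lit 4096) n27m4 (Net.cons (nat_lit 2048) n27m5 (Net.cons (nat_lit 1024) n27m6 (Net.cons (nat_lit 512) n27m7 (Net.cons (nat_lit 256) n27m8 (Net.cons (nat_lit 128) n27m9 (Net.cons (nat_lit 64) n27m10 (Net.cons (nat_lit 32) n27m11 (Net.cons (nat_lit 16) n27m12 (Net.cons (nat_lit 8) n27m13 (Net.cons (nat_lit 4) n27m14 (Net.cons (nat_lit 2) n27m15 (Net.cons (nat_lit 1) n27m16 (Net.cons (nat_lit 2) n27m17 (Net.cons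 (nat_lit 4) n27m18 (Net.cons (nat_lit 8) n27m19 (Net.cons (nat_lit 16) n27m20 (Net.cons (nat_lit 32) n27m21 (Net.cons (nat_lit 64) n27m22 (Net.cons (nat_lit 128) n27m23 (Net.cons (nat_lit 256) n27m24 (Net.cons (nat_lit 512) n27m25 (Net.cons (nat_lit 1024) n27m26 (Net.cons (nat_lit 2048) n27m27 (Net.cons (nat_lit 4096) n27m28 (Net.cons (nat_lit 8192) n27m29 (Net.cons (nat_lit 16384) n27m30 (Net.cons (nat_lit 32768) n27m31 (Net.cons (nat_lit 65536) n27m32 Net.nil)))))))))))))))))))))))))))))))))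
noncomputable def n28 : Net := (Net.cons (nat_lit 65536) n28m0 (Net.cons (nat_lit 32768) n28m1 (Net.cons (nat_lit 16384) n28m2 (Net.cons (nat_lit 8192) n28m3 (Net.cons (nat_lit 4096) n28m4 (Net.cons (nat_lit 2048) n28m5 (Net.cons (nat_lit 1024) n28m6 (Net.cons (nat_lit 512) n28m7 (Net.cons (nat_lit 256) n28m8 (Net.cons (nat_lit 128) n28m9 (Net.cons (nat_lit 64) n28m10 (Net.cons (nat_lit 32) n28m11 (Net.cons (nat_lit 16) n28m12 (Net.cons (nat_lit 8) n28m13 (Net.cons (nat_lit 4) n28m14 (Net.cons (nat_lit 2) n28m15 (Net.cons (nat_lit 1) n28m16 (Net.cons (nat_lit 2) n28m17 (Net.cons (nat_lit 4) n28m18 (Net.cons (nat_lit 8) n28m19 (Net.cons (nat_lit 16) n28m20 (Net.cons (nat_lit 32) n28m21 (Net.cons (nat_lit 64) n28m22 (Net.cons (nat_lit 128) n28m23 (Net.cons (nat_lit 256) n28m24 (Net.cons (nat_lit 512) n28m25 (Net.cons (nat_lit 1024) n28m26 (Net.cons (nat_lit 2048) n28m27 (Net.cons (nat_lit 4096) n28m28 (Net.cons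 (nat_lit 8192) n28m29 (Net.cons (nat_lit 16384) n28m30 (Net.cons (nat_lit 32768) n28m31 (Net.cons (nat_lit 65536) n28m32 Net.nil)))))))))))))))))))))))))))))))))
noncomputable def n29 : Net := (Net.cons (nat_lit 65536) n29m0 (Net.cons (nat_lit 32768) n29m1 (Net.cons (nat_lit 16384) n29m2 (Net.cons (nat_lit 8192) n29m3 (Net.cons (nat_lit 4096) n29m4 (Net.cons (nat_lit 2048) n29m5 (Net.cons (nat_lit 1024) n29m6 (Net.cons (nat_lit 512) n29m7 (Net.cons (nat_lit 256) n29m8 (Net.cons (nat_lit 128) n29m9 (Net.cons (nat_lit 64) n29m10 (Net.cons (nat_lit 32) n29m11 (Net.cons (nat_lit 16) n29m12 (Net.cons (nat_lit 8) n29m13 (Net.cons (nat_lit 4) n29m14 (Net.cons (nat_lit 2) n29m15 (Net.cons (nat_lit 1) n29m16 (Net.cons (nat_lit 2) n29m17 (Net.cons (nat_lit 4) n29m18 (Net.cons (nat_lit 8) n29m19 (Net.cons (nat_lit 16) n29m20 (Net.cons (nat_lit 32) n29m21 (Net.cons (nat_lit 64) n29m22 (Net.cons (nat_lit 128) n29m23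 (Net.cons (nat_lit 256) n29m24 (Net.cons (nat_lit 512) n29m25 (Net.cons (nat_lit 1024) n29m26 (Net.cons (nat_lit 2048) n29m27 (Net.cons (nat_lit 4096) n29m28 (Net.cons (nat_lit 8192) n29m29 (Net.cons (nat_lit 16384) n29m30 (Net.cons (nat_lit 32768) n29m31 (Net.cons (nat_lit 65536) n29m32 Net.nil)))))))))))))))))))))))))))))))))
noncomputable def n30 : Net := (Net.cons (nat_lit 65536) n30m0 (Net.cons (nat_lit 32768) n30m1 (Net.cons (nat_lit 16384) n30m2 (Net.cons (nat_lit 8192) n30m3 (Net.cons (nat_lit 4096) n30m4 (Net.cons (nat_lit 2048) n30m5 (Net.cons (nat_lit 1024) n30m6 (Net.cons (nat_lit 512) n30m7 (Net.cons (nat_lit 256) n30m8 (Net.cons (nat_lit 128) n30m9 (Net.cons (nat_lit 64) n30m10 (Net.cons (nat_lit 32) n30m11 (Net.cons (nat_lit 16) n30m12 (Net.cons (nat_lit 8) n30m13 (Net.cons (nat_lit 4) n30m14 (Net.cons (nat_lit 2) n30m15 (Net.cons (nat_lit 1) n30m16 (Net.cons (nat_lit 2) n30m17 (Net.cons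 (nat_lit 4) n30m18 (Net.cons (nat_lit 8) n30m19 (Net.cons (nat_lit 16) n30m20 (Net.cons (nat_lit 32) n30m21 (Net.cons (nat_lit 64) n30m22 (Net.cons (nat_lit 128) n30m23 (Net.cons (nat_lit 256) n30m24 (Net.cons (nat_lit 512) n30m25 (Net.cons (nat_lit 1024) n30m26 (Net.cons (nat_lit 2048) n30m27 (Net.cons (nat_lit 4096) n30m28 (Net.cons (nat_lit 8192) n30m29 (Net.cons (nat_lit 16384) n30m30 (Net.cons (nat_lit 32768) n30m31 (Net.cons (nat_lit 65536) n30m32 Net.nil)))))))))))))))))))))))))))))))))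
noncomputable def n31 : Net := (Net.cons (nat_lit 65536) n31m0 (Net.cons (nat_lit 32768) n31m1 (Net.cons (nat_lit 16384) n31m2 (Net.cons (nat_lit 8192) n31m3 (Net.cons (nat_lit 4096) n31m4 (Net.cons (nat_lit 2048) n31m5 (Net.cons (nat_lit 1024) n31m6 (Net.cons (nat_lit 512) n31m7 (Net.cons (nat_lit 256) n31m8 (Net.cons (nat_lit 128) n31m9 (Net.cons (nat_lit 64) n31m10 (Net.cons (nat_lit 32) n31m11 (Net.cons (nat_lit 16) n31m12 (Net.cons (nat_lit 8) n31m13 (Net.cons (nat_lit 4) n31m14 (Net.cons (nat_lit 2) n31m15 (Net.cons (nat_lit 1) n31m16 (Net.cons (nat_lit 2) n31m17 (Net.cons (nat_lit 4) n31m18 (Net.cons (nat_lit 8) n31m19 (Net.cons (nat_lit 16) n31m20 (Net.cons (nat_lit 32) n31m21 (Net.cons (nat_lit 64) n31m22 (Net.cons (nat_lit 128) n31m23 (Net.cons (nat_lit 256) n31m24 (Net.cons (nat_lit 512) n31m25 (Net.cons (nat_lit 1024) n31m26 (Net.cons (nat_lit 2048) n31m27 (Net.cons (nat_lit 4096) n31m28 (Net.cons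 (nat_lit 8192) n31m29 (Net.cons (nat_lit 16384) n31m30 (Net.cons (nat_lit 32768) n31m31 (Net.cons (nat_lit 65536) n31m32 Net.nil)))))))))))))))))))))))))))))))))
noncomputable def n32 : Net := (Net.cons (nat_lit 65536) n32m0 (Net.cons (nat_lit 32768) n32m1 (Net.cons (nat_lit 16384) n32m2 (Net.cons (nat_lit 8192) n32m3 (Net.cons (nat_lit 4096) n32m4 (Net.cons (nat_lit 2048) n32m5 (Net.cons (nat_lit 1024) n32m6 (Net.cons (nat_lit 512) n32m7 (Net.cons (nat_lit 256) n32m8 (Net.cons (nat_lit 128) n32m9 (Net.cons (nat_lit 64) n32m10 (Net.cons (nat_lit 32) n32m11 (Net.cons (nat_lit 16) n32m12 (Net.cons (nat_lit 8) n32m13 (Net.cons (nat_lit 4) n32m14 (Net.cons (nat_lit 2) n32m15 (Net.cons (nat_lit 1) n32m16 (Net.cons (nat_lit 2) n32m17 (Net.cons (nat_lit 4) n32m18 (Net.cons (nat_lit 8) n32m19 (Net.cons (nat_lit 16) n32m20 (Net.cons (nat_lit 32) n32m21 (Net.cons (nat_lit 64) n32m22 (Net.cons (nat_lit 128) n32m23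 (Net.cons (nat_lit 256) n32m24 (Net.cons (nat_lit 512) n32m25 (Net.cons (nat_lit 1024) n32m26 (Net.cons (nat_lit 2048) n32m27 (Net.cons (nat_lit 4096) n32m28 (Net.cons (nat_lit 8192) n32m29 (Net.cons (nat_lit 16384) n32m30 (Net.cons (nat_lit 32768) n32m31 (Net.cons (nat_lit 65536) n32m32 Net.nil)))))))))))))))))))))))))))))))))
noncomputable def n33 : Net := (Net.cons (nat_lit 65536) n33m0 (Net.cons (nat_lit 32768) n33m1 (Net.cons (nat_lit 16384) n33m2 (Net.cons (nat_lit 8192) n33m3 (Net.cons (nat_lit 4096) n33m4 (Net.cons (nat_lit 2048) n33m5 (Net.cons (nat_lit 1024) n33m6 (Net.cons (nat_lit 512) n33m7 (Net.cons (nat_lit 256) n33m8 (Net.cons (nat_lit 128) n33m9 (Net.cons (nat_lit 64) n33m10 (Net.cons (nat_lit 32) n33m11 (Net.cons (nat_lit 16) n33m12 (Net.cons (nat_lit 8) n33m13 (Net.cons (nat_lit 4) n33m14 (Net.cons (nat_lit 2) n33m15 (Net.cons (nat_lit 1) n33m16 (Net.cons (nat_lit 2) n33m17 (Net.cons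 (nat_lit 4) n33m18 (Net.cons (nat_lit 8) n33m19 (Net.cons (nat_lit 16) n33m20 (Net.cons (nat_lit 32) n33m21 (Net.cons (nat_lit 64) n33m22 (Net.cons (nat_lit 128) n33m23 (Net.cons (nat_lit 256) n33m24 (Net.cons (nat_lit 512) n33m25 (Net.cons (nat_lit 1024) n33m26 (Net.cons (nat_lit 2048) n33m27 (Net.cons (nat_lit 4096) n33m28 (Net.cons (nat_lit 8192) n33m29 (Net.cons (nat_lit 16384) n33m30 (Net.cons (nat_lit 32768) n33m31 (Net.cons (nat_lit 65536) n33m32 Net.nil)))))))))))))))))))))))))))))))))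
noncomputable def n34 : Net := (Net.cons (nat_lit 65536) n34m0 (Net.cons (nat_lit 32768) n34m1 (Net.cons (nat_lit 16384) n34m2 (Net.cons (nat_lit 8192) n34m3 (Net.cons (nat_lit 4096) n34m4 (Net.cons (nat_lit 2048) n34m5 (Net.cons (nat_lit 1024) n34m6 (Net.cons (nat_lit 512) n34m7 (Net.cons (nat_lit 256) n34m8 (Net.cons (nat_lit 128) n34m9 (Net.cons (nat_lit 64) n34m10 (Net.cons (nat_lit 32) n34m11 (Net.cons (nat_lit 16) n34m12 (Net.cons (nat_lit 8) n34m13 (Net.cons (nat_lit 4) n34m14 (Net.cons (nat_lit 2) n34m15 (Net.cons (nat_lit 1) n34m16 (Net.cons (nat_lit 2) n34m17 (Net.cons (nat_lit 4) n34m18 (Net.cons (nat_lit 8) n34m19 (Net.cons (nat_lit 16) n34m20 (Net.cons (nat_lit 32) n34m21 (Net.cons (nat_lit 64) n34m22 (Net.cons (nat_lit 128) n34m23 (Net.cons (nat_lit 256) n34m24 (Net.cons (nat_lit 512) n34m25 (Net.cons (nat_lit 1024) n34m26 (Net.cons (nat_lit 2048) n34m27 (Net.cons (nat_lit 4096) n34m28 (Net.cons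 (nat_lit 8192) n34m29 (Net.cons (nat_lit 16384) n34m30 (Net.cons (nat_lit 32768) n34m31 (Net.cons (nat_lit 65536) n34m32 Net.nil)))))))))))))))))))))))))))))))))
noncomputable def n35 : Net := (Net.cons (nat_lit 65536) n35m0 (Net.cons (nat_lit 32768) n35m1 (Net.cons (nat_lit 16384) n35m2 (Net.cons (nat_lit 8192) n35m3 (Net.cons (nat_lit 4096) n35m4 (Net.cons (nat_lit 2048) n35m5 (Net.cons (nat_lit 1024) n35m6 (Net.cons (nat_lit 512) n35m7 (Net.cons (nat_lit 256) n35m8 (Net.cons (nat_lit 128) n35m9 (Net.cons (nat_lit 64) n35m10 (Net.cons (nat_lit 32) n35m11 (Net.cons (nat_lit 16) n35m12 (Net.cons (nat_lit 8) n35m13 (Net.cons (nat_lit 4) n35m14 (Net.cons (nat_lit 2) n35m15 (Net.cons (nat_lit 1) n35m16 (Net.cons (nat_lit 2) n35m17 (Net.cons (nat_lit 4) n35m18 (Net.cons (nat_lit 8) n35m19 (Net.cons (nat_lit 16) n35m20 (Net.cons (nat_lit 32) n35m21 (Net.cons (nat_lit 64) n35m22 (Net.cons (nat_lit 128) n35m23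 (Net.cons (nat_lit 256) n35m24 (Net.cons (nat_lit 512) n35m25 (Net.cons (nat_lit 1024) n35m26 (Net.cons (nat_lit 2048) n35m27 (Net.cons (nat_lit 4096) n35m28 (Net.cons (nat_lit 8192) n35m29 (Net.cons (nat_lit 16384) n35m30 (Net.cons (nat_lit 32768) n35m31 (Net.cons (nat_lit 65536) n35m32 Net.nil)))))))))))))))))))))))))))))))))
noncomputable def n36 : Net := (Net.cons (nat_lit 65536) n36m0 (Net.cons (nat_lit 32768) n36m1 (Net.cons (nat_lit 16384) n36m2 (Net.cons (nat_lit 8192) n36m3 (Net.cons (nat_lit 4096) n36m4 (Net.cons (nat_lit 2048) n36m5 (Net.cons (nat_lit 1024) n36m6 (Net.cons (nat_lit 512) n36m7 (Net.cons (nat_lit 256) n36m8 (Net.cons (nat_lit 128) n36m9 (Net.cons (nat_lit 64) n36m10 (Net.cons (nat_lit 32) n36m11 (Net.cons (nat_lit 16) n36m12 (Net.cons (nat_lit 8) n36m13 (Net.cons (nat_lit 4) n36m14 (Net.cons (nat_lit 2) n36m15 (Net.cons (nat_lit 1) n36m16 (Net.cons (nat_lit 2) n36m17 (Net.cons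 (nat_lit 4) n36m18 (Net.cons (nat_lit 8) n36m19 (Net.cons (nat_lit 16) n36m20 (Net.cons (nat_lit 32) n36m21 (Net.cons (nat_lit 64) n36m22 (Net.cons (nat_lit 128) n36m23 (Net.cons (nat_lit 256) n36m24 (Net.cons (nat_lit 512) n36m25 (Net.cons (nat_lit 1024) n36m26 (Net.cons (nat_lit 2048) n36m27 (Net.cons (nat_lit 4096) n36m28 (Net.cons (nat_lit 8192) n36m29 (Net.cons (nat_lit 16384) n36m30 (Net.cons (nat_lit 32768) n36m31 (Net.cons (nat_lit 65536) n36m32 Net.nil)))))))))))))))))))))))))))))))))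
noncomputable def n37 : Net := (Net.cons (nat_lit 65536) n37m0 (Net.cons (nat_lit 32768) n37m1 (Net.cons (nat_lit 16384) n37m2 (Net.cons (nat_lit 8192) n37m3 (Net.cons (nat_lit 4096) n37m4 (Net.cons (nat_lit 2048) n37m5 (Net.cons (nat_lit 1024) n37m6 (Net.cons (nat_lit 512) n37m7 (Net.cons (nat_lit 256) n37m8 (Net.cons (nat_lit 128) n37m9 (Net.cons (nat_lit 64) n37m10 (Net.cons (nat_lit 32) n37m11 (Net.cons (nat_lit 16) n37m12 (Net.cons (nat_lit 8) n37m13 (Net.cons (nat_lit 4) n37m14 (Net.cons (nat_lit 2) n37m15 (Net.cons (nat_lit 1) n37m16 (Net.cons (nat_lit 2) n37m17 (Net.cons (nat_lit 4) n37m18 (Net.cons (nat_lit 8) n37m19 (Net.cons (nat_lit 16) n37m20 (Net.cons (nat_lit 32) n37m21 (Net.cons (nat_lit 64) n37m22 (Net.cons (nat_lit 128) n37m23 (Net.cons (nat_lit 256) n37m24 (Net.cons (nat_lit 512) n37m25 (Net.cons (nat_lit 1024) n37m26 (Net.cons (nat_lit 2048) n37m27 (Net.cons (nat_lit 4096) n37m28 (Net.cons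 (nat_lit 8192) n37m29 (Net.cons (nat_lit 16384) n37m30 (Net.cons (nat_lit 32768) n37m31 (Net.cons (nat_lit 65536) n37m32 Net.nil)))))))))))))))))))))))))))))))))
noncomputable def n38 : Net := (Net.cons (nat_lit 65536) n38m0 (Net.cons (nat_lit 32768) n38m1 (Net.cons (nat_lit 16384) n38m2 (Net.cons (nat_lit 8192) n38m3 (Net.cons (nat_lit 4096) n38m4 (Net.cons (nat_lit 2048) n38m5 (Net.cons (nat_lit 1024) n38m6 (Net.cons (nat_lit 512) n38m7 (Net.cons (nat_lit 256) n38m8 (Net.cons (nat_lit 128) n38m9 (Net.cons (nat_lit 64) n38m10 (Net.cons (nat_lit 32) n38m11 (Net.cons (nat_lit 16) n38m12 (Net.cons (nat_lit 8) n38m13 (Net.cons (nat_lit 4) n38m14 (Net.cons (nat_lit 2) n38m15 (Net.cons (nat_lit 1) n38m16 (Net.cons (nat_lit 2) n38m17 (Net.cons (nat_lit 4) n38m18 (Net.cons (nat_lit 8) n38m19 (Net.cons (nat_lit 16) n38m20 (Net.cons (nat_lit 32) n38m21 (Net.cons (nat_lit 64) n38m22 (Net.cons (nat_lit 128) n38m23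 (Net.cons (nat_lit 256) n38m24 (Net.cons (nat_lit 512) n38m25 (Net.cons (nat_lit 1024) n38m26 (Net.cons (nat_lit 2048) n38m27 (Net.cons (nat_lit 4096) n38m28 (Net.cons (nat_lit 8192) n38m29 (Net.cons (nat_lit 16384) n38m30 (Net.cons (nat_lit 32768) n38m31 (Net.cons (nat_lit 65536) n38m32 Net.nil)))))))))))))))))))))))))))))))))
noncomputable def n39 : Net := (Net.cons (nat_lit 65536) n39m0 (Net.cons (nat_lit 32768) n39m1 (Net.cons (nat_lit 16384) n39m2 (Net.cons (nat_lit 8192) n39m3 (Net.cons (nat_lit 4096) n39m4 (Net.cons (nat_lit 2048) n39m5 (Net.cons (nat_lit 1024) n39m6 (Net.cons (nat_lit 512) n39m7 (Net.cons (nat_lit 256) n39m8 (Net.cons (nat_lit 128) n39m9 (Net.cons (nat_lit 64) n39m10 (Net.cons (nat_lit 32) n39m11 (Net.cons (nat_lit 16) n39m12 (Net.cons (nat_lit 8) n39m13 (Net.cons (nat_lit 4) n39m14 (Net.cons (nat_lit 2) n39m15 (Net.cons (nat_lit 1) n39m16 (Net.cons (nat_lit 2) n39m17 (Net.cons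 (nat_lit 4) n39m18 (Net.cons (nat_lit 8) n39m19 (Net.cons (nat_lit 16) n39m20 (Net.cons (nat_lit 32) n39m21 (Net.cons (nat_lit 64) n39m22 (Net.cons (nat_lit 128) n39m23 (Net.cons (nat_lit 256) n39m24 (Net.cons (nat_lit 512) n39m25 (Net.cons (nat_lit 1024) n39m26 (Net.cons (nat_lit 2048) n39m27 (Net.cons (nat_lit 4096) n39m28 (Net.cons (nat_lit 8192) n39m29 (Net.cons (nat_lit 16384) n39m30 (Net.cons (nat_lit 32768) n39m31 (Net.cons (nat_lit 65536) n39m32 Net.nil)))))))))))))))))))))))))))))))))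
noncomputable def n40 : Net := (Net.cons (nat_lit 65536) n40m0 (Net.cons (nat_lit 32768) n40m1 (Net.cons (nat_lit 16384) n40m2 (Net.cons (nat_lit 8192) n40m3 (Net.cons (nat_lit 4096) n40m4 (Net.cons (nat_lit 2048) n40m5 (Net.cons (nat_lit 1024) n40m6 (Net.cons (nat_lit 512) n40m7 (Net.cons (nat_lit 256) n40m8 (Net.cons (nat_lit 128) n40m9 (Net.cons (nat_lit 64) n40m10 (Net.cons (nat_lit 32) n40m11 (Net.cons (nat_lit 16) n40m12 (Net.cons (nat_lit 8) n40m13 (Net.cons (nat_lit 4) n40m14 (Net.cons (nat_lit 2) n40m15 (Net.cons (nat_lit 1) n40m16 (Net.cons (nat_lit 2) n40m17 (Net.cons (nat_lit 4) n40m18 (Net.cons (nat_lit 8) n40m19 (Net.cons (nat_lit 16) n40m20 (Net.cons (nat_lit 32) n40m21 (Net.cons (nat_lit 64) n40m22 (Net.cons (nat_lit 128) n40m23 (Net.cons (nat_lit 256) n40m24 (Net.cons (nat_lit 512) n40m25 (Net.cons (nat_lit 1024) n40m26 (Net.cons (nat_lit 2048) n40m27 (Net.cons (nat_lit 4096) n40m28 (Net.cons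 (nat_lit 8192) n40m29 (Net.cons (nat_lit 16384) n40m30 (Net.cons (nat_lit 32768) n40m31 (Net.cons (nat_lit 65536) n40m32 Net.nil)))))))))))))))))))))))))))))))))
noncomputable def n41 : Net := (Net.cons (nat_lit 65536) n41m0 (Net.cons (nat_lit 32768) n41m1 (Net.cons (nat_lit 16384) n41m2 (Net.cons (nat_lit 8192) n41m3 (Net.cons (nat_lit 4096) n41m4 (Net.cons (nat_lit 2048) n41m5 (Net.cons (nat_lit 1024) n41m6 (Net.cons (nat_lit 512) n41m7 (Net.cons (nat_lit 256) n41m8 (Net.cons (nat_lit 128) n41m9 (Net.cons (nat_lit 64) n41m10 (Net.cons (nat_lit 32) n41m11 (Net.cons (nat_lit 16) n41m12 (Net.cons (nat_lit 8) n41m13 (Net.cons (nat_lit 4) n41m14 (Net.cons (nat_lit 2) n41m15 (Net.cons (nat_lit 1) n41m16 (Net.cons (nat_lit 2) n41m17 (Net.cons (nat_lit 4) n41m18 (Net.cons (nat_lit 8) n41m19 (Net.cons (nat_lit 16) n41m20 (Net.cons (nat_lit 32) n41m21 (Net.cons (nat_lit 64) n41m22 (Net.cons (nat_lit 128) n41m23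 (Net.cons (nat_lit 256) n41m24 (Net.cons (nat_lit 512) n41m25 (Net.cons (nat_lit 1024) n41m26 (Net.cons (nat_lit 2048) n41m27 (Net.cons (nat_lit 4096) n41m28 (Net.cons (nat_lit 8192) n41m29 (Net.cons (nat_lit 16384) n41m30 (Net.cons (nat_lit 32768) n41m31 (Net.cons (nat_lit 65536) n41m32 Net.nil)))))))))))))))))))))))))))))))))
noncomputable def n42 : Net := (Net.cons (nat_lit 65536) n42m0 (Net.cons (nat_lit 32768) n42m1 (Net.cons (nat_lit 16384) n42m2 (Net.cons (nat_lit 8192) n42m3 (Net.cons (nat_lit 4096) n42m4 (Net.cons (nat_lit 2048) n42m5 (Net.cons (nat_lit 1024) n42m6 (Net.cons (nat_lit 512) n42m7 (Net.cons (nat_lit 256) n42m8 (Net.cons (nat_lit 128) n42m9 (Net.cons (nat_lit 64) n42m10 (Net.cons (nat_lit 32) n42m11 (Net.cons (nat_lit 16) n42m12 (Net.cons (nat_lit 8) n42m13 (Net.cons (nat_lit 4) n42m14 (Net.cons (nat_lit 2) n42m15 (Net.cons (nat_lit 1) n42m16 (Net.cons (nat_lit 2) n42m17 (Net.cons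 (nat_lit 4) n42m18 (Net.cons (nat_lit 8) n42m19 (Net.cons (nat_lit 16) n42m20 (Net.cons (nat_lit 32) n42m21 (Net.cons (nat_lit 64) n42m22 (Net.cons (nat_lit 128) n42m23 (Net.cons (nat_lit 256) n42m24 (Net.cons (nat_lit 512) n42m25 (Net.cons (nat_lit 1024) n42m26 (Net.cons (nat_lit 2048) n42m27 (Net.cons (nat_lit 4096) n42m28 (Net.cons (nat_lit 8192) n42m29 (Net.cons (nat_lit 16384) n42m30 (Net.cons (nat_lit 32768) n42m31 (Net.cons (nat_lit 65536) n42m32 Net.nil)))))))))))))))))))))))))))))))))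
noncomputable def n43 : Net := (Net.cons (nat_lit 65536) n43m0 (Net.cons (nat_lit 32768) n43m1 (Net.cons (nat_lit 16384) n43m2 (Net.cons (nat_lit 8192) n43m3 (Net.cons (nat_lit 4096) n43m4 (Net.cons (nat_lit 2048) n43m5 (Net.cons (nat_lit 1024) n43m6 (Net.cons (nat_lit 512) n43m7 (Net.cons (nat_lit 256) n43m8 (Net.cons (nat_lit 128) n43m9 (Net.cons (nat_lit 64) n43m10 (Net.cons (nat_lit 32) n43m11 (Net.cons (nat_lit 16) n43m12 (Net.cons (nat_lit 8) n43m13 (Net.cons (nat_lit 4) n43m14 (Net.cons (nat_lit 2) n43m15 (Net.cons (nat_lit 1) n43m16 (Net.cons (nat_lit 2) n43m17 (Net.cons (nat_lit 4) n43m18 (Net.cons (nat_lit 8) n43m19 (Net.cons (nat_lit 16) n43m20 (Net.cons (nat_lit 32) n43m21 (Net.cons (nat_lit 64) n43m22 (Net.cons (nat_lit 128) n43m23 (Net.cons (nat_lit 256) n43m24 (Net.cons (nat_lit 512) n43m25 (Net.cons (nat_lit 1024) n43m26 (Net.cons (nat_lit 2048) n43m27 (Net.cons (nat_lit 4096) n43m28 (Net.cons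 (nat_lit 8192) n43m29 (Net.cons (nat_lit 16384) n43m30 (Net.cons (nat_lit 32768) n43m31 (Net.cons (nat_lit 65536) n43m32 Net.nil)))))))))))))))))))))))))))))))))
noncomputable def n44 : Net := (Net.cons (nat_lit 65536) n44m0 (Net.cons (nat_lit 32768) n44m1 (Net.cons (nat_lit 16384) n44m2 (Net.cons (nat_lit 8192) n44m3 (Net.cons (nat_lit 4096) n44m4 (Net.cons (nat_lit 2048) n44m5 (Net.cons (nat_lit 1024) n44m6 (Net.cons (nat_lit 512) n44m7 (Net.cons (nat_lit 256) n44m8 (Net.cons (nat_lit 128) n44m9 (Net.cons (nat_lit 64) n44m10 (Net.cons (nat_lit 32) n44m11 (Net.cons (nat_lit 16) n44m12 (Net.cons (nat_lit 8) n44m13 (Net.cons (nat_lit 4) n44m14 (Net.cons (nat_lit 2) n44m15 (Net.cons (nat_lit 1) n44m16 (Net.cons (nat_lit 2) n44m17 (Net.cons (nat_lit 4) n44m18 (Net.cons (nat_lit 8) n44m19 (Net.cons (nat_lit 16) n44m20 (Net.cons (nat_lit 32) n44m21 (Net.cons (nat_lit 64) n44m22 (Net.cons (nat_lit 128) n44m23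 (Net.cons (nat_lit 256) n44m24 (Net.cons (nat_lit 512) n44m25 (Net.cons (nat_lit 1024) n44m26 (Net.cons (nat_lit 2048) n44m27 (Net.cons (nat_lit 4096) n44m28 (Net.cons (nat_lit 8192) n44m29 (Net.cons (nat_lit 16384) n44m30 (Net.cons (nat_lit 32768) n44m31 (Net.cons (nat_lit 65536) n44m32 Net.nil)))))))))))))))))))))))))))))))))
noncomputable def n45 : Net := (Net.cons (nat_lit 65536) n45m0 (Net.cons (nat_lit 32768) n45m1 (Net.cons (nat_lit 16384) n45m2 (Net.cons (nat_lit 8192) n45m3 (Net.cons (nat_lit 4096) n45m4 (Net.cons (nat_lit 2048) n45m5 (Net.cons (nat_lit 1024) n45m6 (Net.cons (nat_lit 512) n45m7 (Net.cons (nat_lit 256) n45m8 (Net.cons (nat_lit 128) n45m9 (Net.cons (nat_lit 64) n45m10 (Net.cons (nat_lit 32) n45m11 (Net.cons (nat_lit 16) n45m12 (Net.cons (nat_lit 8) n45m13 (Net.cons (nat_lit 4) n45m14 (Net.cons (nat_lit 2) n45m15 (Net.cons (nat_lit 1) n45m16 (Net.cons (nat_lit 2) n45m17 (Net.cons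 (nat_lit 4) n45m18 (Net.cons (nat_lit 8) n45m19 (Net.cons (nat_lit 16) n45m20 (Net.cons (nat_lit 32) n45m21 (Net.cons (nat_lit 64) n45m22 (Net.cons (nat_lit 128) n45m23 (Net.cons (nat_lit 256) n45m24 (Net.cons (nat_lit 512) n45m25 (Net.cons (nat_lit 1024) n45m26 (Net.cons (nat_lit 2048) n45m27 (Net.cons (nat_lit 4096) n45m28 (Net.cons (nat_lit 8192) n45m29 (Net.cons (nat_lit 16384) n45m30 (Net.cons (nat_lit 32768) n45m31 (Net.cons (nat_lit 65536) n45m32 Net.nil)))))))))))))))))))))))))))))))))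
noncomputable def n46 : Net := (Net.cons (nat_lit 65536) n46m0 (Net.cons (nat_lit 32768) n46m1 (Net.cons (nat_lit 16384) n46m2 (Net.cons (nat_lit 8192) n46m3 (Net.cons (nat_lit 4096) n46m4 (Net.cons (nat_lit 2048) n46m5 (Net.cons (nat_lit 1024) n46m6 (Net.cons (nat_lit 512) n46m7 (Net.cons (nat_lit 256) n46m8 (Net.cons (nat_lit 128) n46m9 (Net.cons (nat_lit 64) n46m10 (Net.cons (nat_lit 32) n46m11 (Net.cons (nat_lit 16) n46m12 (Net.cons (nat_lit 8) n46m13 (Net.cons (nat_lit 4) n46m14 (Net.cons (nat_lit 2) n46m15 (Net.cons (nat_lit 1) n46m16 (Net.cons (nat_lit 2) n46m17 (Net.cons (nat_lit 4) n46m18 (Net.cons (nat_lit 8) n46m19 (Net.cons (nat_lit 16) n46m20 (Net.cons (nat_lit 32) n46m21 (Net.cons (nat_lit 64) n46m22 (Net.cons (nat_lit 128) n46m23 (Net.cons (nat_lit 256) n46m24 (Net.cons (nat_lit 512) n46m25 (Net.cons (nat_lit 1024) n46m26 (Net.cons (nat_lit 2048) n46m27 (Net.cons (nat_lit 4096) n46m28 (Net.cons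 (nat_lit 8192) n46m29 (Net.cons (nat_lit 16384) n46m30 (Net.cons (nat_lit 32768) n46m31 (Net.cons (nat_lit 65536) n46m32 Net.nil)))))))))))))))))))))))))))))))))
noncomputable def n47 : Net := (Net.cons (nat_lit 65536) n47m0 (Net.cons (nat_lit 32768) n47m1 (Net.cons (nat_lit 16384) n47m2 (Net.cons (nat_lit 8192) n47m3 (Net.cons (nat_lit 4096) n47m4 (Net.cons (nat_lit 2048) n47m5 (Net.cons (nat_lit 1024) n47m6 (Net.cons (nat_lit 512) n47m7 (Net.cons (nat_lit 256) n47m8 (Net.cons (nat_lit 128) n47m9 (Net.cons (nat_lit 64) n47m10 (Net.cons (nat_lit 32) n47m11 (Net.cons (nat_lit 16) n47m12 (Net.cons (nat_lit 8) n47m13 (Net.cons (nat_lit 4) n47m14 (Net.cons (nat_lit 2) n47m15 (Net.cons (nat_lit 1) n47m16 (Net.cons (nat_lit 2) n47m17 (Net.cons (nat_lit 4) n47m18 (Net.cons (nat_lit 8) n47m19 (Net.cons (nat_lit 16) n47m20 (Net.cons (nat_lit 32) n47m21 (Net.cons (nat_lit 64) n47m22 (Net.cons (nat_lit 128) n47m23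 (Net.cons (nat_lit 256) n47m24 (Net.cons (nat_lit 512) n47m25 (Net.cons (nat_lit 1024) n47m26 (Net.cons (nat_lit 2048) n47m27 (Net.cons (nat_lit 4096) n47m28 (Net.cons (nat_lit 8192) n47m29 (Net.cons (nat_lit 16384) n47m30 (Net.cons (nat_lit 32768) n47m31 (Net.cons (nat_lit 65536) n47m32 Net.nil)))))))))))))))))))))))))))))))))
noncomputable def n48 : Net := (Net.cons (nat_lit 65536) n48m0 (Net.cons (nat_lit 32768) n48m1 (Net.cons (nat_lit 16384) n48m2 (Net.cons (nat_lit 8192) n48m3 (Net.cons (nat_lit 4096) n48m4 (Net.cons (nat_lit 2048) n48m5 (Net.cons (nat_lit 1024) n48m6 (Net.cons (nat_lit 512) n48m7 (Net.cons (nat_lit 256) n48m8 (Net.cons (nat_lit 128) n48m9 (Net.cons (nat_lit 64) n48m10 (Net.cons (nat_lit 32) n48m11 (Net.cons (nat_lit 16) n48m12 (Net.cons (nat_lit 8) n48m13 (Net.cons (nat_lit 4) n48m14 (Net.cons (nat_lit 2) n48m15 (Net.cons (nat_lit 1) n48m16 (Net.cons (nat_lit 2) n48m17 (Net.cons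 (nat_lit 4) n48m18 (Net.cons (nat_lit 8) n48m19 (Net.cons (nat_lit 16) n48m20 (Net.cons (nat_lit 32) n48m21 (Net.cons (nat_lit 64) n48m22 (Net.cons (nat_lit 128) n48m23 (Net.cons (nat_lit 256) n48m24 (Net.cons (nat_lit 512) n48m25 (Net.cons (nat_lit 1024) n48m26 (Net.cons (nat_lit 2048) n48m27 (Net.cons (nat_lit 4096) n48m28 (Net.cons (nat_lit 8192) n48m29 (Net.cons (nat_lit 16384) n48m30 (Net.cons (nat_lit 32768) n48m31 (Net.cons (nat_lit 65536) n48m32 Net.nil)))))))))))))))))))))))))))))))))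
noncomputable def n49 : Net := (Net.cons (nat_lit 65536) n49m0 (Net.cons (nat_lit 32768) n49m1 (Net.cons (nat_lit 16384) n49m2 (Net.cons (nat_lit 8192) n49m3 (Net.cons (nat_lit 4096) n49m4 (Net.cons (nat_lit 2048) n49m5 (Net.cons (nat_lit 1024) n49m6 (Net.cons (nat_lit 512) n49m7 (Net.cons (nat_lit 256) n49m8 (Net.cons (nat_lit 128) n49m9 (Net.cons (nat_lit 64) n49m10 (Net.cons (nat_lit 32) n49m11 (Net.cons (nat_lit 16) n49m12 (Net.cons (nat_lit 8) n49m13 (Net.cons (nat_lit 4) n49m14 (Net.cons (nat_lit 2) n49m15 (Net.cons (nat_lit 1) n49m16 (Net.cons (nat_lit 2) n49m17 (Net.cons (nat_lit 4) n49m18 (Net.cons (nat_lit 8) n49m19 (Net.cons (nat_lit 16) n49m20 (Net.cons (nat_lit 32) n49m21 (Net.cons (nat_lit 64) n49m22 (Net.cons (nat_lit 128) n49m23 (Net.cons (nat_lit 256) n49m24 (Net.cons (nat_lit 512) n49m25 (Net.cons (nat_lit 1024) n49m26 (Net.cons (nat_lit 2048) n49m27 (Net.cons (nat_lit 4096) n49m28 (Net.cons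 (nat_lit 8192) n49m29 (Net.cons (nat_lit 16384) n49m30 (Net.cons (nat_lit 32768) n49m31 (Net.cons (nat_lit 65536) n49m32 Net.nil)))))))))))))))))))))))))))))))))
noncomputable def nl2 : List Net := [n16, n17, n18, n19, n20, n21, n22, n23, n24, n25, n26, n27, n28, n29, n30, n31, n32, n33, n34, n35, n36, n37, n38, n39, n40, n41, n42, n43, n44, n45, n46, n47, n48, n49]
theorem nl2_ok : allL (Net.ok (nat_lit 131072)) nl2 = true := by decide +kernel
noncomputable def nl : List Net := [H0.MON.n0, H0.MON.n1, H0.MON.n2, H0.MON.n3, H0.MON.n4, H0.MON.n5, H0.MON.n6, H0.MON.n7, H0.MON.n8, H0.MON.n9, H0.MON.n10, H0.MON.n11, H0.MON.n12, H0.MON.n13, H0.MON.n14, H0.MON.n15, n16, n17, n18, n19, n20, n21, n22, n23, n24, n25, n26, n27, n28, n29, n30, n31, n32, n33, n34, n35, n36, n37, n38, n39, n40, n41, n42, n43, n44, n45, n46, n47, n48, n49]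
theorem nl_ok : allL (Net.ok (nat_lit 131072)) nl = true := allL_append H0.MON.nl_ok nl2_ok
noncomputable def R : Rep := mkRep (nat_lit 17) (nat_lit 131072) nl (by decide +kernel) nl_ok
def defs : List (List ℕ) := [[10, 10, 11, 10, 11, 10, 11, 10, 10, 10, 10, 10, 11, 11, 10, 11, 11, 13, 14, 14, 12, 13], [11, 11, 11, 10, 11, 10, 10, 11, 10, 11, 11, 10, 11, 11, 14, 14, 14, 12, 13, 12], [17, 17, 17], [17, 16, 18, 18, 16, 18], [18, 18, 16, 17, 17, 16, 17, 16, 17], [20, 20, 20, 20, 20], [19, 21, 19, 20, 19], [21, 21, 19, 20, 19, 20, 20, 19, 21], [23, 23, 23, 23, 23], [22, 24, 22, 24, 22, 24], [22, 23, 23, 22, 24], [26, 26, 26, 26, 26], [8, 8, 9, 9, 9, 9, 8, 8, 9, 8, 8, 8, 8, 11, 11, 11, 11, 10, 11, 11, 10, 11, 11, 11, 10, 13, 14, 14, 14, 14], [9, 9, 8, 9, 8, 8, 9, 9, 9, 8, 8, 9, 8, 8, 9, 8, 9, 8, 10, 11, 10, 10, 10, 11, 10, 11, 10, 11, 11, 11, 10, 10, 12], [29, 29], [28, 29, 28, 30, 28, 29, 28, 30, 28], [28,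 30, 28, 30, 28, 29, 28, 30, 28, 30, 28, 30], [32, 32, 32, 32, 32], [31, 33, 31, 32, 32, 32, 31], [34, 34, 34, 34], [8, 9, 8, 8, 9, 9, 8, 8, 9, 8, 8, 8, 8, 8, 9, 8, 8, 8, 11, 10, 11, 10, 11, 11, 10, 10, 11, 11, 10, 10, 11, 11, 10, 11, 10, 13, 14, 13, 12], [8, 8, 9, 9, 8, 9, 9, 8, 8, 8, 8, 9, 9, 11, 11, 11, 11, 11, 10, 10, 10, 10, 10, 11, 10, 11, 10, 10, 10, 13, 14, 13], [37, 37, 37], [37, 37], [36, 38, 38, 36, 38, 36, 38, 36, 37, 36, 37, 37, 36], [40, 40, 40], [41], [42, 42, 42], [39, 40, 39, 41, 39, 41, 39], [44, 44, 44], [43, 45], [46, 46, 46], [45, 43, 44], [48, 48, 48]]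
end H0.EON
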