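import Cfsg.Agent.H0.EON.D
set_option maxRecDepth 100000
set_option Elab.async false
set_option linter.unusedSectionVars false
namespace H0.EON
open H0 BN 
theorem c19 : pairsB R [222, 1, 0] ((((H0.MJ1.B.map (sh 28)).map fun r => (r, ([] : List ℕ))).drop 57).take 2) = true := by decide +kernel
theorem c20 : neB R [28] [] 0 69327 0 = true := by decide +kernel
theorem c21 : pairsB R [222, 1, 0] ((((H0.MM11p.B.map (sh 36)).map fun r => (r, ([] : List ℕ))).drop 0).take 21) = true := by decide +kernel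
theorem c22 : pairsB R [222, 1, 0] ((((H0.MM11p.B.map (sh 36)).map fun r => (r, ([] : List ℕ))).drop 21).take 11) = true := by decide +kernel
theorem c23 : pairsB R [222, 1, 0] ((((H0.MM11p.B.map (sh 36)).map fun r => (r, ([] : List ℕ))).drop 32).take 8) = true := by decide +kernel
theorem c24 : pairsB R [222, 1, 0] ((((H0.MM11p.B.map (sh 36)).map fun r => (r, ([] : List ℕ))).drop 40).take 3) = true := by decide +kernel
theorem c25 : pairsB R [222, 1, 0] ((((H0.MM11p.B.map (sh 36)).map fun r => (r, ([] : List ℕ))).drop 43).take 7) = true := by decide +kernel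
theorem c26 : pairsB R [222, 1, 0] ((((H0.MM11p.B.map (sh 36)).map fun r => (r, ([] : List ℕ))).drop 50).take 2) = true := by decide +kernel
theorem c27 : neB R [36] [] 0 117996 0 = true := by decide +kernel
theorem c28 : eqW R 0 3 [49] [48, 48, 48] = true := by decide +kernel
theorem c29 : eqW R 3 3 [49] [48, 48, 48] = true := by decide +kernel
theorem c30 : eqW R 6 3 [49] [48, 48, 48] = true := by decide +kernel
theorem c31 : eqW R 9 3 [49] [48, 48, 48] = true := by decide +kernel
theorem c32 : eqW R 12 3 [49] [48, 48, 48] = true := by decide +kernel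
theorem c33 : eqW R 15 2 [49] [48, 48, 48] = true := by decide +kernel
theorem c34 : eqW R 0 3 [48] [45, 43, 44] = true := by decide +kernel
theorem c35 : eqW R 3 3 [48] [45, 43, 44] = true := by decide +kernel
theorem c36 : eqW R 6 3 [48] [45, 43, 44] = true := by decide +kernel
theorem c37 : eqW R 9 3 [48] [45, 43, 44] = true := by decide +kernel
theorem c38 : eqW R 12 3 [48] [45, 43, 44] = true := by decide +kernel
theorem c39 : eqW R 15 2 [48] [45, 43, 44] = true := by decide +kernel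
theorem c40 : eqW R 0 3 [47] [46, 46, 46] = true := by decide +kernel
theorem c41 : eqW R 3 3 [47] [46, 46, 46] = true := by decide +kernel
theorem c42 : eqW R 6 3 [47] [46, 46, 46] = true := by decide +kernel
theorem c43 : eqW R 9 3 [47] [46, 46, 46] = true := by decide +kernel
theorem c44 : eqW R 12 3 [47] [46, 46, 46] = true := by decide +kernel
theorem c45 : eqW R 15 2 [47] [46, 46, 46] = true := by decide +kernel
theorem c46 : eqW R 0 3 [46] [43, 45] = true := by decide +kernel
theorem c47 : eqW R 3 3 [46] [43, 45] = true := by decide +kernel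
theorem c48 : eqW R 6 3 [46] [43, 45] = true := by decide +kernel
theorem c49 : eqW R 9 3 [46] [43, 45] = true := by decide +kernel
theorem c50 : eqW R 12 3 [46] [43, 45] = true := by decide +kernel
theorem c51 : eqW R 15 2 [46] [43, 45] = true := by decide +kernel
theorem c52 : eqW R 0 3 [45] [44, 44, 44] = true := by decide +kernel
theorem c53 : eqW R 3 3 [45] [44, 44, 44] = true := by decide +kernel
theorem c54 : eqW R 6 3 [45] [44, 44, 44] = true := by decide +kernel
theorem c55 : eqW R 9 3 [45] [44, 44, 44] = true := by decide +kernel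
theorem c56 : eqW R 12 3 [45] [44, 44, 44] = true := by decide +kernel
theorem c57 : eqW R 15 2 [45] [44, 44, 44] = true := by decide +kernel
theorem c58 : eqW R 0 3 [44] [39, 40, 39, 41, 39, 41, 39] = true := by decide +kernel
theorem c59 : eqW R 3 3 [44] [39, 40, 39, 41, 39, 41, 39] = true := by decide +kernel
theorem c60 : eqW R 6 3 [44] [39, 40, 39, 41, 39, 41, 39] = true := by decide +kernel
theorem c61 : eqW R 9 3 [44] [39, 40, 39, 41, 39, 41, 39] = true := by decide +kernel
theorem c62 : eqW R 12 3 [44] [39, 40, 39, 41, 39, 41, 39] = true := by decide +kernel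
theorem c63 : eqW R 15 2 [44] [39, 40, 39, 41, 39, 41, 39] = true := by decide +kernel
theorem c64 : eqW R 0 3 [43] [42, 42, 42] = true := by decide +kernel
theorem c65 : eqW R 3 3 [43] [42, 42, 42] = true := by decide +kernel
theorem c66 : eqW R 6 3 [43] [42, 42, 42] = true := by decide +kernel
theorem c67 : eqW R 9 3 [43] [42, 42, 42] = true := by decide +kernel
theorem c68 : eqW R 12 3 [43] [42, 42, 42] = true := by decide +kernel
theorem c69 : eqW R 15 2 [43] [42, 42, 42] = true := by decide +kernel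
theorem c70 : eqW R 0 3 [42] [41] = true := by decide +kernel
theorem c71 : eqW R 3 3 [42] [41] = true := by decide +kernel
theorem c72 : eqW R 6 3 [42] [41] = true := by decide +kernel
theorem c73 : eqW R 9 3 [42] [41] = true := by decide +kernel
theorem c74 : eqW R 12 3 [42] [41] = true := by decide +kernel
theorem c75 : eqW R 15 2 [42] [41] = true := by decide +kernel
theorem c76 : eqW R 0 3 [41] [40, 40, 40] = true := by decide +kernel
theorem c77 : eqW R 3 3 [41] [40, 40, 40] = true := by decide +kernel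
theorem c78 : eqW R 6 3 [41] [40, 40, 40] = true := by decide +kernel
theorem c79 : eqW R 9 3 [41] [40, 40, 40] = true := by decide +kernel
theorem c80 : eqW R 12 3 [41] [40, 40, 40] = true := by decide +kernel
theorem c81 : eqW R 15 2 [41] [40, 40, 40] = true := by decide +kernel
theorem c82 : eqW R 0 3 [40] [36, 38, 38, 36, 38, 36, 38, 36, 37, 36, 37, 37, 36] = true := by decide +kernel
theorem c83 : eqW R 3 3 [40] [36, 38, 38, 36, 38, 36, 38, 36, 37, 36, 37, 37, 36] = true := by decide +kernel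
theorem c84 : eqW R 6 3 [40] [36, 38, 38, 36, 38, 36, 38, 36, 37, 36, 37, 37, 36] = true := by decide +kernel
theorem c85 : eqW R 9 3 [40] [36, 38, 38, 36, 38, 36, 38, 36, 37, 36, 37, 37, 36] = true := by decide +kernel
theorem c86 : eqW R 12 3 [40] [36, 38, 38, 36, 38, 36, 38, 36, 37, 36, 37, 37, 36] = true := by decide +kernel
theorem c87 : eqW R 15 2 [40] [36, 38, 38, 36, 38, 36, 38, 36, 37, 36, 37, 37, 36] = true := by decide +kernel
theorem c88 : eqW R 0 3 [39] [37, 37] = true := by decide +kernel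
theorem c89 : eqW R 3 3 [39] [37, 37] = true := by decide +kernel
theorem c90 : eqW R 6 3 [39] [37, 37] = true := by decide +kernel
theorem c91 : eqW R 9 3 [39] [37, 37] = true := by decide +kernel
theorem c92 : eqW R 12 3 [39] [37, 37] = true := by decide +kernel
theorem c93 : eqW R 15 2 [39] [37, 37] = true := by decide +kernel
theorem c94 : eqW R 0 3 [38] [37, 37, 37] = true := by decide +kernel
theorem c95 : eqW R 3 3 [38] [37, 37, 37] = true := by decide +kernel
theorem c96 : eqW R 6 3 [38] [37, 37, 37] = true := by decide +kernel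
theorem c97 : eqW R 9 3 [38] [37, 37, 37] = true := by decide +kernel
theorem c98 : eqW R 12 3 [38] [37, 37, 37] = true := by decide +kernel
theorem c99 : eqW R 15 2 [38] [37, 37, 37] = true := by decide +kernel
theorem c100 : eqW R 0 3 [37] [8, 8, 9, 9, 8, 9, 9, 8, 8, 8, 8, 9, 9, 11, 11, 11, 11, 11, 10, 10, 10, 10, 10, 11, 10, 11, 10, 10, 10, 13, 14, 13] = true := by decide +kernel
theorem c101 : eqW R 3 3 [37] [8, 8, 9, 9, 8, 9, 9, 8, 8, 8, 8, 9, 9, 11, 11, 11, 11, 11, 10, 10, 10, 10, 10, 11, 10, 11, 10, 10, 10, 13, 14, 13] = true := by decide +kernel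
theorem c102 : eqW R 6 3 [37] [8, 8, 9, 9, 8, 9, 9, 8, 8, 8, 8, 9, 9, 11, 11, 11, 11, 11, 10, 10, 10, 10, 10, 11, 10, 11, 10, 10, 10, 13, 14, 13] = true := by decide +kernel
theorem c103 : eqW R 9 3 [37] [8, 8, 9, 9, 8, 9, 9, 8, 8, 8, 8, 9, 9, 11, 11, 11, 11, 11, 10, 10, 10, 10, 10, 11, 10, 11, 10, 10, 10, 13, 14, 13] = true := by decide +kernel
theorem c104 : eqW R 12 3 [37] [8, 8, 9, 9, 8, 9, 9, 8, 8, 8, 8, 9, 9, 11, 11, 11, 11, 11, 10, 10, 10, 10, 10, 11, 10, 11, 10, 10, 10, 13, 14, 13] = true := by decide +kernel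
theorem c105 : eqW R 15 2 [37] [8, 8, 9, 9, 8, 9, 9, 8, 8, 8, 8, 9, 9, 11, 11, 11, 11, 11, 10, 10, 10, 10, 10, 11, 10, 11, 10, 10, 10, 13, 14, 13] = true := by decide +kernel
theorem c106 : eqW R 0 3 [36] [8, 9, 8, 8, 9, 9, 8, 8, 9, 8, 8, 8, 8, 8, 9, 8, 8, 8, 11, 10, 11, 10, 11, 11, 10, 10, 11, 11, 10, 10, 11, 11, 10, 11, 10, 13, 14, 13, 12] = true := by decide +kernel
theorem c107 : eqW R 3 3 [36] [8, 9, 8, 8, 9, 9, 8, 8, 9, 8, 8, 8, 8, 8, 9, 8, 8, 8, 11, 10, 11, 10, 11, 11, 10, 10, 11, 11, 10, 10, 11, 11, 10, 11, 10, 13, 14, 13, 12] = true := by decide +kernel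
theorem c108 : eqW R 6 3 [36] [8, 9, 8, 8, 9, 9, 8, 8, 9, 8, 8, 8, 8, 8, 9, 8, 8, 8, 11, 10, 11, 10, 11, 11, 10, 10, 11, 11, 10, 10, 11, 11, 10, 11, 10, 13, 14, 13, 12] = true := by decide +kernel
theorem c109 : eqW R 9 3 [36] [8, 9, 8, 8, 9, 9, 8, 8, 9, 8, 8, 8, 8, 8, 9, 8, 8, 8, 11, 10, 11, 10, 11, 11, 10, 10, 11, 11, 10, 10, 11, 11, 10, 11, 10, 13, 14, 13, 12] = true := by decide +kernel
theorem c110 : eqW R 12 3 [36] [8, 9, 8, 8, 9, 9, 8, 8, 9, 8, 8, 8, 8, 8, 9, 8, 8, 8, 11, 10, 11, 10, 11, 11, 10, 10, 11, 11, 10, 10, 11, 11, 10, 11, 10, 13, 14, 13, 12] = true := by decide +kernel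
theorem c111 : eqW R 15 2 [36] [8, 9, 8, 8, 9, 9, 8, 8, 9, 8, 8, 8, 8, 8, 9, 8, 8, 8, 11, 10, 11, 10, 11, 11, 10, 10, 11, 11, 10, 10, 11, 11, 10, 11, 10, 13, 14, 13, 12] = true := by decide +kernel
theorem c112 : eqW R 0 3 [35] [34, 34, 34, 34] = true := by decide +kernel
theorem c113 : eqW R 3 3 [35] [34, 34, 34, 34] = true := by decide +kernel
theorem c114 : eqW R 6 3 [35] [34, 34, 34, 34] = true := by decide +kernel
theorem c115 : eqW R 9 3 [35] [34, 34, 34, 34] = true := by decide +kernel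
theorem c116 : eqW R 12 3 [35] [34, 34, 34, 34] = true := by decide +kernel
theorem c117 : eqW R 15 2 [35] [34, 34, 34, 34] = true := by decide +kernel
theorem c118 : eqW R 0 3 [34] [31, 33, 31, 32, 32, 32, 31] = true := by decide +kernel
theorem c119 : eqW R 3 3 [34] [31, 33, 31, 32, 32, 32, 31] = true := by decide +kernel
theorem c120 : eqW R 6 3 [34] [31, 33, 31, 32, 32, 32, 31] = true := by decide +kernel
theorem c121 : eqW R 9 3 [34] [31, 33, 31, 32, 32, 32, 31] = true := by decide +kernel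
theorem c122 : eqW R 12 3 [34] [31, 33, 31, 32, 32, 32, 31] = true := by decide +kernel
theorem c123 : eqW R 15 2 [34] [31, 33, 31, 32, 32, 32, 31] = true := by decide +kernel
theorem c124 : eqW R 0 3 [33] [32, 32, 32, 32, 32] = true := by decide +kernel
theorem c125 : eqW R 3 3 [33] [32, 32, 32, 32, 32] = true := by decide +kernel
theorem c126 : eqW R 6 3 [33] [32, 32, 32, 32, 32] = true := by decide +kernel
theorem c127 : eqW R 9 3 [33] [32, 32, 32, 32, 32] = true := by decide +kernel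
theorem c128 : eqW R 12 3 [33] [32, 32, 32, 32, 32] = true := by decide +kernel
theorem c129 : eqW R 15 2 [33] [32, 32, 32, 32, 32] = true := by decide +kernel
theorem c130 : eqW R 0 3 [32] [28, 30, 28, 30, 28, 29, 28, 30, 28, 30, 28, 30] = true := by decide +kernel
theorem c131 : eqW R 3 3 [32] [28, 30, 28, 30, 28, 29, 28, 30, 28, 30, 28, 30] = true := by decide +kernel
theorem c132 : eqW R 6 3 [32] [28, 30, 28, 30, 28, 29, 28, 30, 28, 30, 28, 30] = true := by decide +kernel
theorem c133 : eqW R 9 3 [32] [28, 30, 28, 30, 28, 29, 28, 30, 28, 30, 28, 30] = true := by decide +kernel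
theorem c134 : eqW R 12 3 [32] [28, 30, 28, 30, 28, 29, 28, 30, 28, 30, 28, 30] = true := by decide +kernel
theorem c135 : eqW R 15 2 [32] [28, 30, 28, 30, 28, 29, 28, 30, 28, 30, 28, 30] = true := by decide +kernel
theorem c136 : eqW R 0 3 [31] [28, 29, 28, 30, 28, 29, 28, 30, 28] = true := by decide +kernel
theorem c137 : eqW R 3 3 [31] [28, 29, 28, 30, 28, 29, 28, 30, 28] = true := by decide +kernel
theorem c138 : eqW R 6 3 [31] [28, 29, 28, 30, 28, 29, 28, 30, 28] = true := by decide +kernel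
theorem c139 : eqW R 9 3 [31] [28, 29, 28, 30, 28, 29, 28, 30, 28] = true := by decide +kernel
theorem c140 : eqW R 12 3 [31] [28, 29, 28, 30, 28, 29, 28, 30, 28] = true := by decide +kernel
theorem c141 : eqW R 15 2 [31] [28, 29, 28, 30, 28, 29, 28, 30, 28] = true := by decide +kernel
theorem c142 : eqW R 0 3 [30] [29, 29] = true := by decide +kernel
theorem c143 : eqW R 3 3 [30] [29, 29] = true := by decide +kernel
theorem c144 : eqW R 6 3 [30] [29, 29] = true := by decide +kernel
theorem c145 : eqW R 9 3 [30] [29, 29] = true := by decide +kernel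
theorem c146 : eqW R 12 3 [30] [29, 29] = true := by decide +kernel
theorem c147 : eqW R 15 2 [30] [29, 29] = true := by decide +kernel
theorem c148 : eqW R 0 3 [29] [9, 9, 8, 9, 8, 8, 9, 9, 9, 8, 8, 9, 8, 8, 9, 8, 9, 8, 10, 11, 10, 10, 10, 11, 10, 11, 10, 11, 11, 11, 10, 10, 12] = true := by decide +kernel
theorem c149 : eqW R 3 3 [29] [9, 9, 8, 9, 8, 8, 9, 9, 9, 8, 8, 9, 8, 8, 9, 8, 9, 8, 10, 11, 10, 10, 10, 11, 10, 11, 10, 11, 11, 11, 10, 10, 12] = true := by decide +kernel
theorem c150 : eqW R 6 3 [29] [9, 9, 8, 9, 8, 8, 9, 9, 9, 8, 8, 9, 8, 8, 9, 8, 9, 8, 10, 11, 10, 10, 10, 11, 10, 11, 10, 11, 11, 11, 10, 10, 12] = true := by decide +kernel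
theorem c151 : eqW R 9 3 [29] [9, 9, 8, 9, 8, 8, 9, 9, 9, 8, 8, 9, 8, 8, 9, 8, 9, 8, 10, 11, 10, 10, 10, 11, 10, 11, 10, 11, 11, 11, 10, 10, 12] = true := by decide +kernel
theorem c152 : eqW R 12 3 [29] [9, 9, 8, 9, 8, 8, 9, 9, 9, 8, 8, 9, 8, 8, 9, 8, 9, 8, 10, 11, 10, 10, 10, 11, 10, 11, 10, 11, 11, 11, 10, 10, 12] = true := by decide +kernel
theorem c153 : eqW R 15 2 [29] [9, 9, 8, 9, 8, 8, 9, 9, 9, 8, 8, 9, 8, 8, 9, 8, 9, 8, 10, 11, 10, 10, 10, 11, 10, 11, 10, 11, 11, 11, 10, 10, 12] = true := by decide +kernel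
theorem c154 : eqW R 0 3 [28] [8, 8, 9, 9, 9, 9, 8, 8, 9, 8, 8, 8, 8, 11, 11, 11, 11, 10, 11, 11, 10, 11, 11, 11, 10, 13, 14, 14, 14, 14] = true := by decide +kernel
theorem c155 : eqW R 3 3 [28] [8, 8, 9, 9, 9, 9, 8, 8, 9, 8, 8, 8, 8, 11, 11, 11, 11, 10, 11, 11, 10, 11, 11, 11, 10, 13, 14, 14, 14, 14] = true := by decide +kernel
theorem c156 : eqW R 6 3 [28] [8, 8, 9, 9, 9, 9, 8, 8, 9, 8, 8, 8, 8, 11, 11, 11, 11, 10, 11, 11, 10, 11, 11, 11, 10, 13, 14, 14, 14, 14] = true := by decide +kernel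
theorem c157 : eqW R 9 3 [28] [8, 8, 9, 9, 9, 9, 8, 8, 9, 8, 8, 8, 8, 11, 11, 11, 11, 10, 11, 11, 10, 11, 11, 11, 10, 13, 14, 14, 14, 14] = true := by decide +kernel
theorem c158 : eqW R 12 3 [28] [8, 8, 9, 9, 9, 9, 8, 8, 9, 8, 8, 8, 8, 11, 11, 11, 11, 10, 11, 11, 10, 11, 11, 11, 10, 13, 14, 14, 14, 14] = true := by decide +kernel
theorem c159 : eqW R 15 2 [28] [8, 8, 9, 9, 9, 9, 8, 8, 9, 8, 8, 8, 8, 11, 11, 11, 11, 10, 11, 11, 10, 11, 11, 11, 10, 13, 14, 14, 14, 14] = true := by decide +kernel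
theorem c160 : eqW R 0 3 [27] [26, 26, 26, 26, 26] = true := by decide +kernel
theorem c161 : eqW R 3 3 [27] [26, 26, 26, 26, 26] = true := by decide +kernel
theorem c162 : eqW R 6 3 [27] [26, 26, 26, 26, 26] = true := by decide +kernel
theorem c163 : eqW R 9 3 [27] [26, 26, 26, 26, 26] = true := by decide +kernel
theorem c164 : eqW R 12 3 [27] [26, 26, 26, 26, 26] = true := by decide +kernel
theorem c165 : eqW R 15 2 [27] [26, 26, 26, 26, 26] = true := by decide +kernel
theorem c166 : eqW R 0 3 [26] [22, 23, 23, 22, 24] = true := by decide +kernel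
theorem c167 : eqW R 3 3 [26] [22, 23, 23, 22, 24] = true := by decide +kernel
theorem c168 : eqW R 6 3 [26] [22, 23, 23, 22, 24] = true := by decide +kernel
theorem c169 : eqW R 9 3 [26] [22, 23, 23, 22, 24] = true := by decide +kernel
theorem c170 : eqW R 12 3 [26] [22, 23, 23, 22, 24] = true := by decide +kernel
theorem c171 : eqW R 15 2 [26] [22, 23, 23, 22, 24] = true := by decide +kernel
theorem c172 : eqW R 0 3 [25] [22, 24, 22, 24, 22, 24] = true := by decide +kernel
theorem c173 : eqW R 3 3 [25] [22, 24, 22, 24, 22, 24] = true := by decide +kernel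
theorem c174 : eqW R 6 3 [25] [22, 24, 22, 24, 22, 24] = true := by decide +kernel
theorem c175 : eqW R 9 3 [25] [22, 24, 22, 24, 22, 24] = true := by decide +kernel
theorem c176 : eqW R 12 3 [25] [22, 24, 22, 24, 22, 24] = true := by decide +kernel
theorem c177 : eqW R 15 2 [25] [22, 24, 22, 24, 22, 24] = true := by decide +kernel
end H0.EON
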