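import Cfsg.Agent.H0.EON.D
set_option maxRecDepth 100000
set_option Elab.async false
set_option linter.unusedSectionVars false
namespace H0.EON
open H0 BN 
theorem c178 : eqW R 0 3 [24] [23, 23, 23, 23, 23] = true := by decide +kernel
theorem c179 : eqW R 3 3 [24] [23, 23, 23, 23, 23] = true := by decide +kernel
theorem c180 : eqW R 6 3 [24] [23, 23, 23, 23, 23] = true := by decide +kernel
theorem c181 : eqW R 9 3 [24] [23, 23, 23, 23, 23] = true := by decide +kernel
theorem c182 : eqW R 12 3 [24] [23, 23, 23, 23, 23] = true := by decide +kernel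
theorem c183 : eqW R 15 2 [24] [23, 23, 23, 23, 23] = true := by decide +kernel
theorem c184 : eqW R 0 3 [23] [21, 21, 19, 20, 19, 20, 20, 19, 21] = true := by decide +kernel
theorem c185 : eqW R 3 3 [23] [21, 21, 19, 20, 19, 20, 20, 19, 21] = true := by decide +kernel
theorem c186 : eqW R 6 3 [23] [21, 21, 19, 20, 19, 20, 20, 19, 21] = true := by decide +kernel
theorem c187 : eqW R 9 3 [23] [21, 21, 19, 20, 19, 20, 20, 19, 21] = true := by decide +kernel
theorem c188 : eqW R 12 3 [23] [21, 21, 19, 20, 19, 20, 20, 19, 21] = true := by decide +kernel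
theorem c189 : eqW R 15 2 [23] [21, 21, 19, 20, 19, 20, 20, 19, 21] = true := by decide +kernel
theorem c190 : eqW R 0 3 [22] [19, 21, 19, 20, 19] = true := by decide +kernel
theorem c191 : eqW R 3 3 [22] [19, 21, 19, 20, 19] = true := by decide +kernel
theorem c192 : eqW R 6 3 [22] [19, 21, 19, 20, 19] = true := by decide +kernel
theorem c193 : eqW R 9 3 [22] [19, 21, 19, 20, 19] = true := by decide +kernel
theorem c194 : eqW R 12 3 [22] [19, 21, 19, 20, 19] = true := by decide +kernel
theorem c195 : eqW R 15 2 [22] [19, 21, 19, 20, 19] = true := by decide +kernel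
theorem c196 : eqW R 0 3 [21] [20, 20, 20, 20, 20] = true := by decide +kernel
theorem c197 : eqW R 3 3 [21] [20, 20, 20, 20, 20] = true := by decide +kernel
theorem c198 : eqW R 6 3 [21] [20, 20, 20, 20, 20] = true := by decide +kernel
theorem c199 : eqW R 9 3 [21] [20, 20, 20, 20, 20] = true := by decide +kernel
theorem c200 : eqW R 12 3 [21] [20, 20, 20, 20, 20] = true := by decide +kernel
theorem c201 : eqW R 15 2 [21] [20, 20, 20, 20, 20] = true := by decide +kernel
theorem c202 : eqW R 0 3 [20] [18, 18, 16, 17, 17, 16, 17, 16, 17] = true := by decide +kernel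
theorem c203 : eqW R 3 3 [20] [18, 18, 16, 17, 17, 16, 17, 16, 17] = true := by decide +kernel
theorem c204 : eqW R 6 3 [20] [18, 18, 16, 17, 17, 16, 17, 16, 17] = true := by decide +kernel
theorem c205 : eqW R 9 3 [20] [18, 18, 16, 17, 17, 16, 17, 16, 17] = true := by decide +kernel
theorem c206 : eqW R 12 3 [20] [18, 18, 16, 17, 17, 16, 17, 16, 17] = true := by decide +kernel
theorem c207 : eqW R 15 2 [20] [18, 18, 16, 17, 17, 16, 17, 16, 17] = true := by decide +kernel
theorem c208 : eqW R 0 3 [19] [17, 16, 18, 18, 16, 18] = true := by decide +kernel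
theorem c209 : eqW R 3 3 [19] [17, 16, 18, 18, 16, 18] = true := by decide +kernel
theorem c210 : eqW R 6 3 [19] [17, 16, 18, 18, 16, 18] = true := by decide +kernel
theorem c211 : eqW R 9 3 [19] [17, 16, 18, 18, 16, 18] = true := by decide +kernel
theorem c212 : eqW R 12 3 [19] [17, 16, 18, 18, 16, 18] = true := by decide +kernel
theorem c213 : eqW R 15 2 [19] [17, 16, 18, 18, 16, 18] = true := by decide +kernel
theorem c214 : eqW R 0 3 [18] [17, 17, 17] = true := by decide +kernel
theorem c215 : eqW R 3 3 [18] [17, 17, 17] = true := by decide +kernel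
theorem c216 : eqW R 6 3 [18] [17, 17, 17] = true := by decide +kernel
theorem c217 : eqW R 9 3 [18] [17, 17, 17] = true := by decide +kernel
theorem c218 : eqW R 12 3 [18] [17, 17, 17] = true := by decide +kernel
theorem c219 : eqW R 15 2 [18] [17, 17, 17] = true := by decide +kernel
theorem c220 : eqW R 0 3 [17] [11, 11, 11, 10, 11, 10, 10, 11, 10, 11, 11, 10, 11, 11, 14, 14, 14, 12, 13, 12] = true := by decide +kernel
theorem c221 : eqW R 3 3 [17] [11, 11, 11, 10, 11, 10, 10, 11, 10, 11, 11, 10, 11, 11, 14, 14, 14, 12, 13, 12] = true := by decide +kernel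
theorem c222 : eqW R 6 3 [17] [11, 11, 11, 10, 11, 10, 10, 11, 10, 11, 11, 10, 11, 11, 14, 14, 14, 12, 13, 12] = true := by decide +kernel
theorem c223 : eqW R 9 3 [17] [11, 11, 11, 10, 11, 10, 10, 11, 10, 11, 11, 10, 11, 11, 14, 14, 14, 12, 13, 12] = true := by decide +kernel
theorem c224 : eqW R 12 3 [17] [11, 11, 11, 10, 11, 10, 10, 11, 10, 11, 11, 10, 11, 11, 14, 14, 14, 12, 13, 12] = true := by decide +kernel
theorem c225 : eqW R 15 2 [17] [11, 11, 11, 10, 11, 10, 10, 11, 10, 11, 11, 10, 11, 11, 14, 14, 14, 12, 13, 12] = true := by decide +kernel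
theorem c226 : eqW R 0 3 [16] [10, 10, 11, 10, 11, 10, 11, 10, 10, 10, 10, 10, 11, 11, 10, 11, 11, 13, 14, 14, 12, 13] = true := by decide +kernel
theorem c227 : eqW R 3 3 [16] [10, 10, 11, 10, 11, 10, 11, 10, 10, 10, 10, 10, 11, 11, 10, 11, 11, 13, 14, 14, 12, 13] = true := by decide +kernel
theorem c228 : eqW R 6 3 [16] [10, 10, 11, 10, 11, 10, 11, 10, 10, 10, 10, 10, 11, 11, 10, 11, 11, 13, 14, 14, 12, 13] = true := by decide +kernel
theorem c229 : eqW R 9 3 [16] [10, 10, 11, 10, 11, 10, 11, 10, 10, 10, 10, 10, 11, 11, 10, 11, 11, 13, 14, 14, 12, 13] = true := by decide +kernel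
theorem c230 : eqW R 12 3 [16] [10, 10, 11, 10, 11, 10, 11, 10, 10, 10, 10, 10, 11, 11, 10, 11, 11, 13, 14, 14, 12, 13] = true := by decide +kernel
theorem c231 : eqW R 15 2 [16] [10, 10, 11, 10, 11, 10, 11, 10, 10, 10, 10, 10, 11, 11, 10, 11, 11, 13, 14, 14, 12, 13] = true := by decide +kernel
end H0.EON
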