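import Cfsg.Agent.H0.EON.K0
import Cfsg.Agent.H0.EON.K1
import Cfsg.Agent.H0.EON.K2
import Cfsg.Agent.H0.EON.K3
import Cfsg.Agent.H0.ML37.Main
import Cfsg.Agent.H0.MJ1.Main
import Cfsg.Agent.H0.MM11p.Main
set_option maxRecDepth 100000
set_option Elab.async false
set_option linter.unusedSectionVars false
namespace H0.EON
open H0 BN 
theorem defs_ok : DefsOK R.p defs 16 := (defsOK_cons (eq_of_bits R (eqb_step R (eqb_step R (eqb_step R (eqb_step R (eqb_step R (eqb_step R (eqb_zero R [16] [10, 10, 11, 10, 11, 10, 11, 10, 10, 10, 10, 10, 11, 11, 10, 11, 11, 13, 14, 14, 12, 13]) c226) c227) c228) c229) c230) c231)) (by decide) (defsOK_cons (eq_of_bits R (eqb_step R (eqb_step R (eqb_step R (eqb_step R (eqb_step R (eqb_step R (eqb_zero R [17] [11, 11, 11, 10, 11, 10, 10, 11, 10, 11, 11, 10, 11, 11, 14, 14, 14, 12, 13, 12]) c220) c221) c222) c223) c224) c225)) (by decide) (defsOK_cons (eq_of_bits R (eqb_step R (eqb_step R (eqb_step R (eqb_step R (eqb_step R (eqb_step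 R (eqb_zero R [18] [17, 17, 17]) c214) c215) c216) c217) c218) c219)) (by decide) (defsOK_cons (eq_of_bits R (eqb_step R (eqb_step R (eqb_step R (eqb_step R (eqb_step R (eqb_step R (eqb_zero R [19] [17, 16, 18, 18, 16, 18]) c208) c209) c210) c211) c212) c213)) (by decide) (defsOK_cons (eq_of_bits R (eqb_step R (eqb_step R (eqb_step R (eqb_step R (eqb_step R (eqb_step R (eqb_zero R [20] [18, 18, 16, 17, 17, 16, 17, 16, 17]) c202) c203) c204) c205) c206) c207)) (by decide) (defsOK_cons (eq_of_bits R (eqb_step R (eqb_step R (eqb_step R (eqb_step R (eqb_step R (eqb_step R (eqb_zero R [21] [20, 20, 20, 20, 20]) c196) c197) c198) c199) c200) c201)) (by decide) (defsOK_cons (eq_of_bits R (eqb_step R (eqb_step R (eqb_step R (eqb_step R (eqb_step R (eqb_step R (eqb_zero R [22] [19, 21, 19, 20, 19]) c190) c191) c192) c193) c194) c195)) (by decide) (defsOK_cons (eq_of_bits R (eqb_step R (eqb_step R (eqb_step R (eqb_step R (eqb_step R (eqb_step R (eqb_zero R [23] [21,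 21, 19, 20, 19, 20, 20, 19, 21]) c184) c185) c186) c187) c188) c189)) (by decide) (defsOK_cons (eq_of_bits R (eqb_step R (eqb_step R (eqb_step R (eqb_step R (eqb_step R (eqb_step R (eqb_zero R [24] [23, 23, 23, 23, 23]) c178) c179) c180) c181) c182) c183)) (by decide) (defsOK_cons (eq_of_bits R (eqb_step R (eqb_step R (eqb_step R (eqb_step R (eqb_step R (eqb_step R (eqb_zero R [25] [22, 24, 22, 24, 22, 24]) c172) c173) c174) c175) c176) c177)) (by decide) (defsOK_cons (eq_of_bits R (eqb_step R (eqb_step R (eqb_step R (eqb_step R (eqb_step R (eqb_step R (eqb_zero R [26] [22, 23, 23, 22, 24]) c166) c167) c168) c169) c170) c171)) (by decide) (defsOK_cons (eq_of_bits R (eqb_step R (eqb_step R (eqb_step R (eqb_step R (eqb_step R (eqb_step R (eqb_zero R [27] [26, 26, 26, 26, 26]) c160) c161) c162) c163) c164) c165)) (by decide) (defsOK_cons (eq_of_bits R (eqb_step R (eqb_step R (eqb_step R (eqb_step R (eqb_step R (eqb_step R (eqb_zero R [28] [8, 8, 9, 9, 9, 9,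 8, 8, 9, 8, 8, 8, 8, 11, 11, 11, 11, 10, 11, 11, 10, 11, 11, 11, 10, 13, 14, 14, 14, 14]) c154) c155) c156) c157) c158) c159)) (by decide) (defsOK_cons (eq_of_bits R (eqb_step R (eqb_step R (eqb_step R (eqb_step R (eqb_step R (eqb_step R (eqb_zero R [29] [9, 9, 8, 9, 8, 8, 9, 9, 9, 8, 8, 9, 8, 8, 9, 8, 9, 8, 10, 11, 10, 10, 10, 11, 10, 11, 10, 11, 11, 11, 10, 10, 12]) c148) c149) c150) c151) c152) c153)) (by decide) (defsOK_cons (eq_of_bits R (eqb_step R (eqb_step R (eqb_step R (eqb_step R (eqb_step R (eqb_step R (eqb_zero R [30] [29, 29]) c142) c143) c144) c145) c146) c147)) (by decide) (defsOK_cons (eq_of_bits R (eqb_step R (eqb_step R (eqb_step R (eqb_step R (eqb_step R (eqb_step R (eqb_zero R [31] [28, 29, 28, 30, 28, 29, 28, 30, 28]) c136) c137) c138) c139) c140) c141)) (by decide) (defsOK_cons (eq_of_bits R (eqb_step R (eqb_step R (eqb_step R (eqb_step R (eqb_step R (eqb_step R (eqb_zero R [32] [28, 30, 28, 30, 28, 29, 28, 30, 28, 30, 28, 30]) c130)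 c131) c132) c133) c134) c135)) (by decide) (defsOK_cons (eq_of_bits R (eqb_step R (eqb_step R (eqb_step R (eqb_step R (eqb_step R (eqb_step R (eqb_zero R [33] [32, 32, 32, 32, 32]) c124) c125) c126) c127) c128) c129)) (by decide) (defsOK_cons (eq_of_bits R (eqb_step R (eqb_step R (eqb_step R (eqb_step R (eqb_step R (eqb_step R (eqb_zero R [34] [31, 33, 31, 32, 32, 32, 31]) c118) c119) c120) c121) c122) c123)) (by decide) (defsOK_cons (eq_of_bits R (eqb_step R (eqb_step R (eqb_step R (eqb_step R (eqb_step R (eqb_step R (eqb_zero R [35] [34, 34, 34, 34]) c112) c113) c114) c115) c116) c117)) (by decide) (defsOK_cons (eq_of_bits R (eqb_step R (eqb_step R (eqb_step R (eqb_step R (eqb_step R (eqb_step R (eqb_zero R [36] [8, 9, 8, 8, 9, 9, 8, 8, 9, 8, 8, 8, 8, 8, 9, 8, 8, 8, 11, 10, 11, 10, 11, 11, 10, 10, 11, 11, 10, 10, 11, 11, 10, 11, 10, 13, 14, 13, 12]) c106) c107) c108) c109) c110) c111)) (by decide) (defsOK_cons (eq_of_bits R (eqb_step R (eqb_step R (eqb_step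 R (eqb_step R (eqb_step R (eqb_step R (eqb_zero R [37] [8, 8, 9, 9, 8, 9, 9, 8, 8, 8, 8, 9, 9, 11, 11, 11, 11, 11, 10, 10, 10, 10, 10, 11, 10, 11, 10, 10, 10, 13, 14, 13]) c100) c101) c102) c103) c104) c105)) (by decide) (defsOK_cons (eq_of_bits R (eqb_step R (eqb_step R (eqb_step R (eqb_step R (eqb_step R (eqb_step R (eqb_zero R [38] [37, 37, 37]) c94) c95) c96) c97) c98) c99)) (by decide) (defsOK_cons (eq_of_bits R (eqb_step R (eqb_step R (eqb_step R (eqb_step R (eqb_step R (eqb_step R (eqb_zero R [39] [37, 37]) c88) c89) c90) c91) c92) c93)) (by decide) (defsOK_cons (eq_of_bits R (eqb_step R (eqb_step R (eqb_step R (eqb_step R (eqb_step R (eqb_step R (eqb_zero R [40] [36, 38, 38, 36, 38, 36, 38, 36, 37, 36, 37, 37, 36]) c82) c83) c84) c85) c86) c87)) (by decide) (defsOK_cons (eq_of_bits R (eqb_step R (eqb_step R (eqb_step R (eqb_step R (eqb_step R (eqb_step R (eqb_zero R [41] [40, 40, 40]) c76) c77) c78) c79) c80) c81)) (by decide) (defsOK_cons (eq_of_bits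 R (eqb_step R (eqb_step R (eqb_step R (eqb_step R (eqb_step R (eqb_step R (eqb_zero R [42] [41]) c70) c71) c72) c73) c74) c75)) (by decide) (defsOK_cons (eq_of_bits R (eqb_step R (eqb_step R (eqb_step R (eqb_step R (eqb_step R (eqb_step R (eqb_zero R [43] [42, 42, 42]) c64) c65) c66) c67) c68) c69)) (by decide) (defsOK_cons (eq_of_bits R (eqb_step R (eqb_step R (eqb_step R (eqb_step R (eqb_step R (eqb_step R (eqb_zero R [44] [39, 40, 39, 41, 39, 41, 39]) c58) c59) c60) c61) c62) c63)) (by decide) (defsOK_cons (eq_of_bits R (eqb_step R (eqb_step R (eqb_step R (eqb_step R (eqb_step R (eqb_step R (eqb_zero R [45] [44, 44, 44]) c52) c53) c54) c55) c56) c57)) (by decide) (defsOK_cons (eq_of_bits R (eqb_step R (eqb_step R (eqb_step R (eqb_step R (eqb_step R (eqb_step R (eqb_zero R [46] [43, 45]) c46) c47) c48) c49) c50) c51)) (by decide) (defsOK_cons (eq_of_bits R (eqb_step R (eqb_step R (eqb_step R (eqb_step R (eqb_step R (eqb_step R (eqb_zero R [47] [46, 46,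 46]) c40) c41) c42) c43) c44) c45)) (by decide) (defsOK_cons (eq_of_bits R (eqb_step R (eqb_step R (eqb_step R (eqb_step R (eqb_step R (eqb_step R (eqb_zero R [48] [45, 43, 44]) c34) c35) c36) c37) c38) c39)) (by decide) (defsOK_cons (eq_of_bits R (eqb_step R (eqb_step R (eqb_step R (eqb_step R (eqb_step R (eqb_step R (eqb_zero R [49] [48, 48, 48]) c28) c29) c30) c31) c32) c33)) (by decide) (defsOK_nil _ _)))))))))))))))))))))))))))))))))))
universe u
variable {G : Type u} [Group G] [Finite G] (m0 : Model G) (h0 : m0.R = H0.MON.R)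
noncomputable def m : Model G := m0.ext (lg := nat_lit 17) (N := nat_lit 131072) (l := H0.MON.nl) h0 nl nl_ok 16 rfl defs defs_ok (by decide +kernel)
theorem mR : (m m0 h0).R = R := rfl
variable (hb : m0.pst [222, 1, 0] = ⊥) (hc : Nat.card G = 460815505920)
include h0 hb hc
theorem base : (m m0 h0).pst [222, 1, 0] = ⊥ := hb
omit hb hc in
theorem geq {x : ℕ} (h : x < 16) : (m m0 h0).g x = m0.g x := m0.ext_g h0 _ _ _ _ _ _ _ h
theorem L_iso : Nonempty (PG 12 H0.ML37.B ≃* gen (m m0 h0).g ((lets 12).map (sh 16))) :=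
  iso_emb _ 16 (all_take_done (all_take_step (all_take_step (all_take_step (all_take_step (all_take_step (all_take_step (all_take_step (all_take_step (all_take_step (all_take_zero _ ((H0.ML37.B.map (sh 16)).map fun r => (r, ([] : List ℕ)))) ((m m0 h0).pairs_of (base m0 h0 hb hc) (Model.via _ (mR m0 h0) (fun R => pairsB R [222, 1, 0] ((((H0.ML37.B.map (sh 16)).map fun r => (r, ([] : List ℕ))).drop 0).take 17)) c0))) ((m m0 h0).pairs_of (base m0 h0 hb hc) (Model.via _ (mR m0 h0) (fun R => pairsB R [222, 1, 0] ((((H0.ML37.B.map (sh 16)).map fun r => (r, ([] : List ℕ))).drop 17).take 5)) c1))) ((m m0 h0).pairs_of (base m0 h0 hb hc) (Model.via _ (mR m0 h0) (fun R => pairsB R [222, 1, 0] ((((H0.ML37.B.map (sh 16)).map fun r => (r, ([] : List ℕ))).drop 22).take 8)) c2))) ((m m0 h0).pairs_of (base m0 h0 hb hc) (Model.via _ (mR m0 h0) (fun R => pairsB R [222, 1, 0] ((((H0.ML37.B.map (sh 16)).map fun r => (r, ([] : List ℕ))).drop 30).take 9)) c3))) ((m m0 h0).pairs_of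 (base m0 h0 hb hc) (Model.via _ (mR m0 h0) (fun R => pairsB R [222, 1, 0] ((((H0.ML37.B.map (sh 16)).map fun r => (r, ([] : List ℕ))).drop 39).take 7)) c4))) ((m m0 h0).pairs_of (base m0 h0 hb hc) (Model.via _ (mR m0 h0) (fun R => pairsB R [222, 1, 0] ((((H0.ML37.B.map (sh 16)).map fun r => (r, ([] : List ℕ))).drop 46).take 7)) c5))) ((m m0 h0).pairs_of (base m0 h0 hb hc) (Model.via _ (mR m0 h0) (fun R => pairsB R [222, 1, 0] ((((H0.ML37.B.map (sh 16)).map fun r => (r, ([] : List ℕ))).drop 53).take 7)) c6))) ((m m0 h0).pairs_of (base m0 h0 hb hc) (Model.via _ (mR m0 h0) (fun R => pairsB R [222, 1, 0] ((((H0.ML37.B.map (sh 16)).map fun r => (r, ([] : List ℕ))).drop 60).take 6)) c7))) ((m m0 h0).pairs_of (base m0 h0 hb hc) (Model.via _ (mR m0 h0) (fun R => pairsB R [222, 1, 0] ((((H0.ML37.B.map (sh 16)).map fun r => (r, ([] : List ℕ))).drop 66).take 1)) c8))) (by decide +kernel)) (H0.ML37.simple (Pres.pg _ _)) ((m m0 h0).ne_of_neB (Model.via _ (mR m0 h0)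 (fun R => neB R [16] [] 1 9264 1) c9)) (by decide +kernel)
omit hb hc in
theorem L_fix : gen (m m0 h0).g ((lets 12).map (sh 16)) ≤ m0.pst [0] := (m m0 h0).gen_le_of_fixP (Model.via _ (mR m0 h0) (fun R => Model.fixP R [0] ((lets 12).map (sh 16))) c10)
theorem J_iso : Nonempty (PG 8 H0.MJ1.B ≃* gen (m m0 h0).g ((lets 8).map (sh 28))) :=
  iso_emb _ 28 (all_take_done (all_take_step (all_take_step (all_take_step (all_take_step (all_take_step (all_take_step (all_take_step (all_take_step (all_take_step (all_take_zero _ ((H0.MJ1.B.map (sh 28)).map fun r => (r, ([] : List ℕ)))) ((m m0 h0).pairs_of (base m0 h0 hb hc) (Model.via _ (mR m0 h0) (fun R => pairsB R [222, 1, 0] ((((H0.MJ1.B.map (sh 28)).map fun r => (r, ([] : List ℕ))).drop 0).take 14)) c11))) ((m m0 h0).pairs_of (base m0 h0 hb hc) (Model.via _ (mR m0 h0) (fun R => pairsB R [222, 1, 0] ((((H0.MJ1.B.map (sh 28)).map fun r => (r, ([] : List ℕ))).drop 14).take 9)) c12))) ((m m0 h0).pairs_of (base m0 h0 hb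 hc) (Model.via _ (mR m0 h0) (fun R => pairsB R [222, 1, 0] ((((H0.MJ1.B.map (sh 28)).map fun r => (r, ([] : List ℕ))).drop 23).take 4)) c13))) ((m m0 h0).pairs_of (base m0 h0 hb hc) (Model.via _ (mR m0 h0) (fun R => pairsB R [222, 1, 0] ((((H0.MJ1.B.map (sh 28)).map fun r => (r, ([] : List ℕ))).drop 27).take 5)) c14))) ((m m0 h0).pairs_of (base m0 h0 hb hc) (Model.via _ (mR m0 h0) (fun R => pairsB R [222, 1, 0] ((((H0.MJ1.B.map (sh 28)).map fun r => (r, ([] : List ℕ))).drop 32).take 7)) c15))) ((m m0 h0).pairs_of (base m0 h0 hb hc) (Model.via _ (mR m0 h0) (fun R => pairsB R [222, 1, 0] ((((H0.MJ1.B.map (sh 28)).map fun r => (r, ([] : List ℕ))).drop 39).take 6)) c16))) ((m m0 h0).pairs_of (base m0 h0 hb hc) (Model.via _ (mR m0 h0) (fun R => pairsB R [222, 1, 0] ((((H0.MJ1.B.map (sh 28)).map fun r => (r, ([] : List ℕ))).drop 45).take 6)) c17))) ((m m0 h0).pairs_of (base m0 h0 hb hc) (Model.via _ (mR m0 h0) (fun R => pairsB R [222, 1, 0] ((((H0.MJ1.B.map (sh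 28)).map fun r => (r, ([] : List ℕ))).drop 51).take 6)) c18))) ((m m0 h0).pairs_of (base m0 h0 hb hc) (Model.via _ (mR m0 h0) (fun R => pairsB R [222, 1, 0] ((((H0.MJ1.B.map (sh 28)).map fun r => (r, ([] : List ℕ))).drop 57).take 2)) c19))) (by decide +kernel)) (H0.MJ1.simple (Pres.pg _ _)) ((m m0 h0).ne_of_neB (Model.via _ (mR m0 h0) (fun R => neB R [28] [] 0 69327 0) c20)) (by decide +kernel)
theorem M_iso : Nonempty (PG 14 H0.MM11p.B ≃* gen (m m0 h0).g ((lets 14).map (sh 36))) :=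
  iso_emb _ 36 (all_take_done (all_take_step (all_take_step (all_take_step (all_take_step (all_take_step (all_take_step (all_take_zero _ ((H0.MM11p.B.map (sh 36)).map fun r => (r, ([] : List ℕ)))) ((m m0 h0).pairs_of (base m0 h0 hb hc) (Model.via _ (mR m0 h0) (fun R => pairsB R [222, 1, 0] ((((H0.MM11p.B.map (sh 36)).map fun r => (r, ([] : List ℕ))).drop 0).take 21)) c21))) ((m m0 h0).pairs_of (base m0 h0 hb hc) (Model.via _ (mR m0 h0) (fun R => pairsB R [222, 1, 0] ((((H0.MM11p.B.map (sh 36)).map fun r => (r, ([] : List ℕ))).drop 21).take 11)) c22))) ((m m0 h0).pairs_of (base m0 h0 hb hc) (Model.via _ (mR m0 h0) (fun R => pairsB R [222, 1, 0] ((((H0.MM11p.B.map (sh 36)).map fun r => (r, ([] : List ℕ))).drop 32).take 8)) c23))) ((m m0 h0).pairs_of (base m0 h0 hb hc) (Model.via _ (mR m0 h0) (fun R => pairsB R [222, 1, 0] ((((H0.MM11p.B.map (sh 36)).map fun r => (r, ([] : List ℕ))).drop 40).take 3)) c24))) ((m m0 h0).pairs_of (base m0 h0 hb hc) (Model.via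 _ (mR m0 h0) (fun R => pairsB R [222, 1, 0] ((((H0.MM11p.B.map (sh 36)).map fun r => (r, ([] : List ℕ))).drop 43).take 7)) c25))) ((m m0 h0).pairs_of (base m0 h0 hb hc) (Model.via _ (mR m0 h0) (fun R => pairsB R [222, 1, 0] ((((H0.MM11p.B.map (sh 36)).map fun r => (r, ([] : List ℕ))).drop 50).take 2)) c26))) (by decide +kernel)) (H0.MM11p.simple (Pres.pg _ _)) ((m m0 h0).ne_of_neB (Model.via _ (mR m0 h0) (fun R => neB R [36] [] 0 117996 0) c27)) (by decide +kernel)
end H0.EON
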